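import Groth.Prelude.Def_MeroSh
import Groth.Prelude.Def_CurvBase
import Mathlib.AlgebraicGeometry.Morphisms.Flat
import Mathlib.RingTheory.Flat.TorsionFree
import Mathlib.RingTheory.Ideal.MinimalPrime.Localization

/-! Regular sections, weakly associated points and pullback of regular sections. -/

namespace Groth.Agent.MeroBasic

open AlgebraicGeometry CategoryTheory TopologicalSpace
open scoped nonZeroDivisors

universe u

variable {X Y : Scheme.{u}}

lemma eq_zero_of_germ_eq_zero {U : X.Opens} {a : Γ(X, U)}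
    (h : ∀ (x : X) (hx : x ∈ U), X.presheaf.germ U x hx a = 0) : a = 0 :=
  TopCat.Presheaf.section_ext X.sheaf U a 0 fun x hx ↦ (h x hx).trans (map_zero _).symm

section Affine

variable {U : X.Opens} (hU : IsAffineOpen U)

/-- The prime of `Γ(X, U)` attached to a point of an affine open. -/
noncomputable abbrev pr (x : X) (hx : x ∈ U) : Ideal Γ(X, U) :=
  (hU.primeIdealOf ⟨x, hx⟩).asIdeal

lemma isUnit_germ_iff {x : X} {hx : x ∈ U} (a : Γ(X, U)) :
    IsUnit (X.presheaf.germ U x hx a) ↔ a ∉ pr hU x hx := by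
  let := X.presheaf.algebra_section_stalk ⟨x, hx⟩
  have := hU.isLocalization_stalk ⟨x, hx⟩
  exact IsLocalization.AtPrime.isUnit_to_map_iff (X.presheaf.stalk x) (pr hU x hx) a

lemma exists_germ_mul_eq {x : X} {hx : x ∈ U} (c : X.presheaf.stalk x) :
    ∃ a, ∃ s ∉ pr hU x hx, c * X.presheaf.germ U x hx s = X.presheaf.germ U x hx a := by
  let := X.presheaf.algebra_section_stalk ⟨x, hx⟩
  have := hU.isLocalization_stalk ⟨x, hx⟩
  obtain ⟨⟨a, s⟩, h⟩ := IsLocalization.surj (pr hU x hx).primeCompl c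
  exact ⟨a, s, s.2, h⟩

lemma germ_eq_zero_iff {x : X} {hx : x ∈ U} (a : Γ(X, U)) :
    X.presheaf.germ U x hx a = 0 ↔ ∃ u ∉ pr hU x hx, u * a = 0 := by
  let := X.presheaf.algebra_section_stalk ⟨x, hx⟩
  have := hU.isLocalization_stalk ⟨x, hx⟩
  exact (IsLocalization.map_eq_zero_iff (pr hU x hx).primeCompl (X.presheaf.stalk x) a).trans
    ⟨fun ⟨u, h⟩ ↦ ⟨u, u.2, h⟩, fun ⟨u, hu, h⟩ ↦ ⟨⟨u, hu⟩, h⟩⟩

include hU in
lemma germ_mem_nonZeroDivisors {x : X} {hx : x ∈ U} {a : Γ(X, U)} (ha : a ∈ Γ(X, U)⁰) :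
    X.presheaf.germ U x hx a ∈ (X.presheaf.stalk x)⁰ := by
  rw [mem_nonZeroDivisors_iff_left]
  intro c hc
  obtain ⟨b, s, hs, hb⟩ := exists_germ_mul_eq hU c
  have h0 : X.presheaf.germ U x hx (a * b) = 0 := by rw [map_mul, ← hb, ← mul_assoc, hc, zero_mul]
  obtain ⟨u, hu, h⟩ := (germ_eq_zero_iff hU _).mp h0
  have h1 : u * b = 0 := mem_nonZeroDivisors_iff_left.mp ha _ (by rw [← h]; ring)
  rw [(germ_eq_zero_iff hU b).mpr ⟨u, hu, h1⟩] at hb
  exact ((isUnit_germ_iff hU s).mpr hs).mul_left_eq_zero.mp hb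

include hU in
lemma regSub_eq_nonZeroDivisors : Mero.regSub X U = Γ(X, U)⁰ := by
  refine le_antisymm (fun f hf ↦ ?_) fun f hf x ↦ germ_mem_nonZeroDivisors hU hf
  rw [mem_nonZeroDivisors_iff_left]
  intro a ha
  exact eq_zero_of_germ_eq_zero fun x hx ↦
    mem_nonZeroDivisors_iff_left.mp (hf ⟨x, hx⟩) _ (by rw [← map_mul, ha, map_zero])

include hU in
lemma fromSpec_mem (q : PrimeSpectrum Γ(X, U)) : hU.fromSpec q ∈ U := by
  have : hU.fromSpec q ∈ Set.range hU.fromSpec := ⟨q, rfl⟩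
  rwa [hU.range_fromSpec] at this

lemma primeIdealOf_fromSpec (q : PrimeSpectrum Γ(X, U)) :
    hU.primeIdealOf ⟨hU.fromSpec q, fromSpec_mem hU q⟩ = q :=
  hU.fromSpec.isOpenEmbedding.injective (hU.fromSpec_primeIdealOf _)

lemma specializes_of_le {x : X} {hx : x ∈ U} (q : PrimeSpectrum Γ(X, U))
    (h : q.asIdeal ≤ pr hU x hx) : hU.fromSpec q ⤳ x := by
  have h' : q ⤳ hU.primeIdealOf ⟨x, hx⟩ := (PrimeSpectrum.le_iff_specializes _ _).mp h
  have := h'.map hU.fromSpec.continuous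
  rwa [hU.fromSpec_primeIdealOf] at this

lemma pr_le_pr {x y : X} {hx : x ∈ U} {hy : y ∈ U} (h : y ⤳ x) :
    pr hU y hy ≤ pr hU x hx := by
  intro a ha
  by_contra hna
  have := ((isUnit_germ_iff hU a).mpr hna).map (X.presheaf.stalkSpecializes h).hom
  rw [TopCat.Presheaf.germ_stalkSpecializes_apply] at this
  exact (isUnit_germ_iff hU a).mp this ha

end Affine

lemma smul_one_germ_eq_zero (x : X) (r : X.presheaf.stalk x)
    (h : r • (Coh.structureModule X).presheaf.germ ⊤ x (trivial : x ∈ (⊤ : X.Opens)) (1 : Γ(X, ⊤)) = 0) : r = 0 := by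
  obtain ⟨U, hx, ρ, rfl⟩ := X.presheaf.exists_germ_eq r
  have e1 : (Coh.structureModule X).presheaf.germ ⊤ x (trivial : x ∈ (⊤ : X.Opens)) (1 : Γ(X, ⊤)) =
      (Coh.structureModule X).presheaf.germ U x hx (1 : Γ(X, U)) := by
    refine (TopCat.Presheaf.germ_res_apply (Coh.structureModule X).presheaf (homOfLE (le_top : U ≤ ⊤)) x hx
      (1 : Γ(X, ⊤))).symm.trans (congrArg _ ?_)
    exact map_one (X.presheaf.map _).hom
  have e2 : X.presheaf.germ U x hx ρ • (Coh.structureModule X).presheaf.germ U x hx (1 : Γ(X, U)) =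
      (Coh.structureModule X).presheaf.germ U x hx ρ := by
    refine Eq.trans (PresheafOfModules.germ_smul (R := X.presheaf)
      (M := show PresheafOfModules (X.presheaf ⋙ forget₂ CommRingCat RingCat) from
        (Coh.structureModule X).val) x U hx ρ (1 : Γ(X, U))).symm ?_
    congr 1
    exact mul_one ρ
  rw [e1] at h
  have h' := (e2.symm.trans h).trans (map_zero ((Coh.structureModule X).presheaf.germ U x hx).hom).symm
  obtain ⟨W, hW, iU, iV, e⟩ := (Coh.structureModule X).presheaf.germ_eq x hx hx _ _ h'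
  have e' : X.presheaf.map iU.op ρ = 0 := e.trans (map_zero (X.presheaf.map iV.op).hom)
  rw [← TopCat.Presheaf.germ_res_apply X.presheaf iU x hW ρ, e', map_zero]

lemma isWeakAssPoint_of_radical_eq (x : X) (c : X.presheaf.stalk x)
    (h : Ideal.radical (LinearMap.ker (LinearMap.toSpanSingleton (X.presheaf.stalk x) (X.presheaf.stalk x) c)) =
      IsLocalRing.maximalIdeal (X.presheaf.stalk x)) :
    Curv2.IsWeakAssPoint (Coh.structureModule X) x := by
  refine ⟨c • (Coh.structureModule X).presheaf.germ ⊤ x (trivial : x ∈ (⊤ : X.Opens)) (1 : Γ(X, ⊤)), ?_⟩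
  rw [← h]
  congr 1
  ext r
  simp only [LinearMap.mem_ker, LinearMap.toSpanSingleton_apply, smul_smul, smul_eq_mul]
  exact ⟨smul_one_germ_eq_zero x _, fun h ↦ by rw [h, zero_smul]⟩

lemma exists_weakAss_of_not_mem_nonZeroDivisors (x : X) (z : X.presheaf.stalk x)
    (hz : z ∉ (X.presheaf.stalk x)⁰) :
    ∃ (x' : X) (h : x' ⤳ x), Curv2.IsWeakAssPoint (Coh.structureModule X) x' ∧
      ¬ IsUnit (X.presheaf.stalkSpecializes h z) := by
  obtain ⟨_, ⟨U, hU, rfl⟩, hx, -⟩ :=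
    X.isBasis_affineOpens.exists_subset_of_mem_open (Set.mem_univ x) isOpen_univ
  replace hx : x ∈ U := hx
  rw [mem_nonZeroDivisors_iff_left] at hz
  push Not at hz
  obtain ⟨c, hzc, hc⟩ := hz
  obtain ⟨a, s, hs, ha⟩ := exists_germ_mul_eq hU (hx := hx) z
  obtain ⟨b, t, ht, hb⟩ := exists_germ_mul_eq hU (hx := hx) c
  have h0 : X.presheaf.germ U x hx (a * b) = 0 := by
    rw [map_mul, ← ha, ← hb, mul_mul_mul_comm, hzc, zero_mul]
  obtain ⟨u, hu, hab⟩ := (germ_eq_zero_iff hU _).mp h0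
  let I : Ideal Γ(X, U) := LinearMap.ker (LinearMap.toSpanSingleton Γ(X, U) Γ(X, U) (u * b))
  have hI : I ≤ pr hU x hx := by
    intro r hr
    by_contra hr'
    have h1 : X.presheaf.germ U x hx (u * b) = 0 := (germ_eq_zero_iff hU _).mpr ⟨r, hr', hr⟩
    rw [map_mul, ← hb, ((isUnit_germ_iff hU u).mpr hu).mul_right_eq_zero,
      ((isUnit_germ_iff hU t).mpr ht).mul_left_eq_zero] at h1
    exact hc h1
  have haI : a ∈ I := by
    show a * (u * b) = 0
    rw [← hab]; ring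
  obtain ⟨q, hq, hqx⟩ := Ideal.exists_minimalPrimes_le hI
  let qq : PrimeSpectrum Γ(X, U) := ⟨q, hq.isPrime⟩
  have hsp : hU.fromSpec qq ⤳ x := specializes_of_le hU qq hqx
  have hmem := fromSpec_mem hU qq
  have hpr : pr hU _ hmem = q := congrArg PrimeSpectrum.asIdeal (primeIdealOf_fromSpec hU qq)
  refine ⟨_, hsp, isWeakAssPoint_of_radical_eq _ (X.presheaf.germ U _ hmem (u * b)) ?_, fun hunit ↦ ?_⟩
  · let := X.presheaf.algebra_section_stalk ⟨_, hmem⟩
    have hL := hU.isLocalization_stalk ⟨_, hmem⟩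
    apply le_antisymm
    · refine (IsLocalRing.le_maximalIdeal fun htop ↦ ?_)
      rw [Ideal.radical_eq_top, Ideal.eq_top_iff_one] at htop
      have h1 : X.presheaf.germ U _ hmem (u * b) = 0 := (one_mul _).symm.trans htop
      obtain ⟨r, hr, hr0⟩ := (germ_eq_zero_iff hU _).mp h1
      exact hr (hpr.symm ▸ hq.le (show r ∈ I from hr0))
    · rw [Ideal.radical_eq_sInf]
      refine le_sInf fun Q ⟨hQ, hQp⟩ ↦ ?_
      intro y hy
      obtain ⟨r, w, hw, hrw⟩ := exists_germ_mul_eq hU (hx := hmem) y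
      let Q' : Ideal Γ(X, U) := Q.comap (X.presheaf.germ U _ hmem).hom
      have hQ' : Q'.IsPrime := Ideal.IsPrime.comap _
      have hle : Q' ≤ q := by
        intro e he
        by_contra heq
        exact hQp.ne_top (Q.eq_top_of_isUnit_mem he ((isUnit_germ_iff hU e).mpr (hpr.symm ▸ heq)))
      have hIQ : I ≤ Q' := fun e he ↦ hQ (by
        show X.presheaf.germ U _ hmem e * X.presheaf.germ U _ hmem (u * b) = 0
        rw [← map_mul, show e * (u * b) = 0 from he, map_zero])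
      have hQq : q ≤ Q' := hq.2 ⟨hQ', hIQ⟩ hle
      have hr : X.presheaf.germ U _ hmem r ∈ Q := hQq (hpr ▸ by
        by_contra hr
        have := (isUnit_germ_iff hU r).mpr hr
        rw [← hrw, IsUnit.mul_iff] at this
        exact hy this.1)
      rw [← hrw] at hr
      exact (hQp.mem_or_mem hr).resolve_right fun h ↦ hQp.ne_top
        (Q.eq_top_of_isUnit_mem h ((isUnit_germ_iff hU w).mpr hw))
  · have h1 := congrArg (X.presheaf.stalkSpecializes hsp) ha
    rw [map_mul, TopCat.Presheaf.germ_stalkSpecializes_apply,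
      TopCat.Presheaf.germ_stalkSpecializes_apply] at h1
    have h2 : IsUnit (X.presheaf.germ U _ hmem a) := by
      rw [← h1]
      refine hunit.mul ?_
      rw [isUnit_germ_iff hU, hpr]
      exact fun h ↦ hs (hqx h)
    rw [isUnit_germ_iff hU, hpr] at h2
    exact h2 (hq.le haI)

lemma isUnit_of_mem_nonZeroDivisors_of_minimal {y : X} (hy : ∀ y' : X, y' ⤳ y → y' = y)
    {g : X.presheaf.stalk y} (hg : g ∈ (X.presheaf.stalk y)⁰) : IsUnit g := by
  by_contra hu
  have hnil : IsNilpotent g := by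
    rw [nilpotent_iff_mem_prime]
    intro J hJ
    have h1 : X.fromSpecStalk y ⟨J, hJ⟩ = y := hy _ (by
      have : X.fromSpecStalk y ⟨J, hJ⟩ ∈ Set.range (X.fromSpecStalk y) := ⟨_, rfl⟩
      rwa [Scheme.range_fromSpecStalk] at this)
    have h2 : (⟨J, hJ⟩ : PrimeSpectrum (X.presheaf.stalk y)) = IsLocalRing.closedPoint _ :=
      (X.fromSpecStalk y).isEmbedding.injective (h1.trans Scheme.fromSpecStalk_closedPoint.symm)
    rw [show J = IsLocalRing.maximalIdeal (X.presheaf.stalk y) from congrArg PrimeSpectrum.asIdeal h2]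
    exact hu
  obtain ⟨k, hk⟩ := hnil
  exact zero_notMem_nonZeroDivisors (hk ▸ pow_mem hg k)

lemma app_mem_regSub_of_flat (f : X ⟶ Y) [Flat f] (U : Y.Opens) (s : Γ(Y, U))
    (hs : s ∈ Mero.regSub Y U) : f.app U s ∈ Mero.regSub X (f ⁻¹ᵁ U) := by
  intro x
  refine (Scheme.Hom.germ_stalkMap_apply f U x.1 x.2 s) ▸ ?_
  algebraize [(f.stalkMap x.1).hom]
  have : Module.Flat (Y.presheaf.stalk (f x.1)) (X.presheaf.stalk x.1) := Flat.stalkMap f x.1
  have h := Module.Flat.isSMulRegular_of_nonZeroDivisors (M := X.presheaf.stalk x.1) (hs ⟨f x.1, x.2⟩)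
  rw [mem_nonZeroDivisors_iff_left]
  intro c hc
  exact h (a₁ := c) (a₂ := 0) (by simp only [Algebra.smul_def, mul_zero]; exact hc)

lemma app_mem_regSub_of_weakAss (f : X ⟶ Y)
    (h : ∀ x : X, Curv2.IsWeakAssPoint (Coh.structureModule X) x → ∀ y : Y, y ⤳ f x → y = f x)
    (U : Y.Opens) (s : Γ(Y, U)) (hs : s ∈ Mero.regSub Y U) :
    f.app U s ∈ Mero.regSub X (f ⁻¹ᵁ U) := by
  intro x
  by_contra hx
  obtain ⟨x', hsp, hw, hnu⟩ := exists_weakAss_of_not_mem_nonZeroDivisors x.1 _ hx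
  rw [TopCat.Presheaf.germ_stalkSpecializes_apply] at hnu
  replace hnu : ¬ IsUnit (f.stalkMap x' (Y.presheaf.germ U (f x') (hsp.mem_open (f ⁻¹ᵁ U).isOpen x.2) s)) :=
    fun hu ↦ hnu (Scheme.Hom.germ_stalkMap_apply f U x' _ s ▸ hu)
  exact hnu ((isUnit_of_mem_nonZeroDivisors_of_minimal (h x' hw)
    (hs ⟨f x', hsp.mem_open (f ⁻¹ᵁ U).isOpen x.2⟩)).map (f.stalkMap x').hom)

end Groth.Agent.MeroBasic
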