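import Groth.Agent.MeroBasic.Minimal
import Groth.Agent.InvBasic.Basic
import Groth.Prelude.Def_MeroDiv

/-! Regular meromorphic sections of invertible modules. -/

namespace Groth.Agent.MeroBasic

open AlgebraicGeometry CategoryTheory TopologicalSpace
open scoped nonZeroDivisors
open InvBasic

universe u

variable {X : Scheme.{u}} {L : X.Modules}

/-- The image of the germ of a section in the stalk of `K_X(L)`. -/
noncomputable abbrev mgerm (L : X.Modules) {U : X.Opens} (ℓ : Γ(L, U)) (y : U) : Mero.MStalk L y.1 :=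
  LocalizedModule.mk (L.presheaf.germ U y.1 y.2 ℓ) 1

lemma kstalk_mk_smul_mk {y : X} (c : X.presheaf.stalk y) (s t : Mero.regStalk X y)
    (m : L.presheaf.stalk y) :
    (LocalizedModule.mk c s : Mero.KStalk X y) • (LocalizedModule.mk m t : Mero.MStalk L y) =
      LocalizedModule.mk (c • m) (s * t) :=
  LocalizedModule.mk_smul_mk c m s t

lemma eq_zero_of_smul_mgerm {U : X.Opens} {ℓ : Γ(L, U)} (hℓ : IsBasis L ℓ) (y : U)
    {q : Mero.KStalk X y.1} (hq : q • mgerm L ℓ y = 0) : q = 0 := by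
  induction q using LocalizedModule.induction_on with
  | h c s =>
    rw [kstalk_mk_smul_mk, mul_one, ← LocalizedModule.zero_mk (S := Mero.regStalk X y.1) s,
      LocalizedModule.mk_eq] at hq
    obtain ⟨w, hw⟩ := hq
    simp only [smul_zero, Submonoid.smul_def, smul_smul] at hw
    have h0 := (hℓ.stalk_bijective y.2).1 (a₁ := w.1 * s.1 * c) (a₂ := 0) (by simpa [mul_assoc] using hw)
    rw [kstalk_mk_eq_zero_iff]
    exact mem_nonZeroDivisors_iff_left.mp
      (Mero.regStalk_le_nonZeroDivisors _ (mul_mem w.2 s.2)) c h0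

lemma mLoc_smul_mgerm {U : X.Opens} (ℓ : Γ(L, U)) (s : Γ(Mero.kmod X, U)) :
    (Mero.mLoc L).pred fun y : U ↦ s.1 y • mgerm L ℓ y := fun y ↦ by
  obtain ⟨V, hV, i, a, b, h⟩ := exists_fraction s y
  refine ⟨V, hV, homOfLE i, a • L.presheaf.map (homOfLE i).op ℓ, b, fun z ↦ ?_⟩
  change s.1 ⟨z.1, i z.2⟩ • mgerm L ℓ ⟨z.1, i z.2⟩ = _
  rw [h z, kstalk_mk_smul_mk]
  refine Mero.mk_congr ?_ (by simp)
  rw [InvBasic.germ_smul, TopCat.Presheaf.germ_res_apply]

variable (ha : ∀ x : X, Curv2.IsWeakAssPoint (Coh.structureModule X) x → ∀ y : X, y ⤳ x → y = x)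
  (hb : ∀ U : X.Opens, IsCompact (U : Set X) → (irreducibleComponents (U : Scheme.{u})).Finite)

include ha hb in
theorem hasRegularMero_of_minimal (hL : PicF.IsInvertible L) : Mero.HasRegularMero L := by
  classical
  choose U hxU ℓ hℓ using exists_isBasis hL
  let ω (η : X) : L.presheaf.stalk η := L.presheaf.germ (U η) η (hxU η) (ℓ η)
  choose c hc using fun (x : X) (η : U x) ↦ ((hℓ x).stalk_bijective η.2).2 (ω η.1)
  choose c' hc' using fun (x : X) (η : U x) ↦
    ((hℓ η.1).stalk_bijective (hxU η.1)).2 (L.presheaf.germ (U x) η.1 η.2 (ℓ x))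
  simp only at hc hc'
  have hcc : ∀ (x : X) (η : U x), c x η * c' x η = 1 := fun x η ↦ by
    refine ((hℓ x).stalk_bijective η.2).1 ?_
    simp only [one_smul]
    rw [mul_comm, mul_smul, hc]
    exact hc' x η
  choose s hs _ using fun x ↦ existsUnique_kmod_of_minimal ha hb (U x) (c x)
  choose t ht _ using fun x ↦ existsUnique_kmod_of_minimal ha hb (U x) (c' x)
  have hst : ∀ x, s x * t x = 1 := fun x ↦ kmod_ext_minimal ha fun η hη ↦ by
    rw [Mero.kmod_mul_apply, hs x η hη, ht x η hη, Mero.kmod_one_apply]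
    refine LocalizedModule.mk_mul_mk.trans ?_
    rw [hcc, one_mul]
    exact Mero.mk_self_eq_one (1 : Mero.regStalk X η.1)
  have hcompat : ∀ (x x' : X) (y : X) (hy : y ∈ U x) (hy' : y ∈ U x'),
      (s x).1 ⟨y, hy⟩ • mgerm L (ℓ x) ⟨y, hy⟩ = (s x').1 ⟨y, hy'⟩ • mgerm L (ℓ x') ⟨y, hy'⟩ := by
    intro x x' y hy hy'
    let T := U x ⊓ U x'
    obtain ⟨v, hv⟩ := (hℓ x T inf_le_left).2 (L.presheaf.map (homOfLE (inf_le_right : T ≤ U x')).op (ℓ x'))
    have hv' : ∀ z : T, L.presheaf.germ (U x') z.1 z.2.2 (ℓ x') =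
        X.presheaf.germ T z.1 z.2 v • L.presheaf.germ (U x) z.1 z.2.1 (ℓ x) := fun z ↦ by
      have := congrArg (L.presheaf.germ T z.1 z.2) hv
      simpa only [InvBasic.germ_smul, TopCat.Presheaf.germ_res_apply] using this.symm
    have hK := kmod_ext_minimal ha
      (s := (Mero.kmod X).presheaf.map (homOfLE (inf_le_left : T ≤ U x)).op (s x))
      (s' := Mero.toK X T v * (Mero.kmod X).presheaf.map (homOfLE (inf_le_right : T ≤ U x')).op (s x'))
      (fun η hη ↦ by
        have hcv : c x ⟨η.1, η.2.1⟩ = X.presheaf.germ T η.1 η.2 v * c x' ⟨η.1, η.2.2⟩ := by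
          refine ((hℓ x).stalk_bijective η.2.1).1 ?_
          simp only
          rw [hc x ⟨η.1, η.2.1⟩, mul_comm, mul_smul, ← hv', hc x' ⟨η.1, η.2.2⟩]
        rw [toK_mul_apply]
        refine (hs x ⟨η.1, η.2.1⟩ hη).trans ?_
        rw [hcv, ← kstalk_mk_mul]
        exact congrArg _ (hs x' ⟨η.1, η.2.2⟩ hη).symm)
    have h1 := congrFun (congrArg Subtype.val hK) ⟨y, hy, hy'⟩
    rw [toK_mul_apply] at h1
    rw [show (s x).1 ⟨y, hy⟩ = (LocalizedModule.mk (X.presheaf.germ T y ⟨hy, hy'⟩ v) 1 : Mero.KStalk X y) *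
      (s x').1 ⟨y, hy'⟩ from h1, mul_comm, mul_smul, kstalk_mk_smul_mk, mul_one]
    exact congrArg _ (Mero.mk_congr (hv' ⟨y, hy, hy'⟩).symm rfl)
  refine ⟨⟨fun y ↦ (s y.1).1 ⟨y.1, hxU y.1⟩ • mgerm L (ℓ y.1) ⟨y.1, hxU y.1⟩, fun y ↦ ?_⟩, fun x q hq ↦ ?_⟩
  · obtain ⟨V, hV, i, m, b, h⟩ := mLoc_smul_mgerm (ℓ y.1) (s y.1) ⟨y.1, hxU y.1⟩
    exact ⟨V, hV, homOfLE le_top, m, b, fun z ↦
      (hcompat z.1 y.1 z.1 (hxU _) (i.le z.2)).trans (h z)⟩
  · have h2 := eq_zero_of_smul_mgerm (hℓ x) ⟨x, hxU x⟩ (q := q * (s x).1 ⟨x, hxU x⟩) (by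
      rw [mul_smul]; exact hq)
    have h1 : (s x).1 ⟨x, hxU x⟩ * (t x).1 ⟨x, hxU x⟩ = 1 := congrFun (congrArg Subtype.val (hst x)) _
    rw [← mul_one q, ← h1, ← mul_assoc, h2, zero_mul]

/-- On a locally Noetherian scheme without embedded points the associated points are the generic ones. -/
lemma minimal_of_noEmbedded [IsLocallyNoetherian X]
    (hne : ∀ x : X, Curv2.IsAssPoint (Coh.structureModule X) x →
      ∀ y : X, Curv2.IsAssPoint (Coh.structureModule X) y → y ⤳ x → y = x) :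
    ∀ x : X, Curv2.IsWeakAssPoint (Coh.structureModule X) x → ∀ y : X, y ⤳ x → y = x := by
  have hA : ∀ z : X, Curv2.IsWeakAssPoint (Coh.structureModule X) z →
      Curv2.IsAssPoint (Coh.structureModule X) z := fun z ⟨m, hm⟩ ↦ ⟨inferInstance, m, hm ▸ congrArg Ideal.radical
    (by ext r; simp [Submodule.mem_colon_singleton])⟩
  intro x hx y hy
  -- a generization of `y` with no proper generization
  obtain ⟨Z, hZ, hle⟩ := exists_mem_irreducibleComponents_subset_of_isIrreducible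
    (closure ({y} : Set X)) isIrreducible_singleton.closure
  obtain ⟨z, hz⟩ := QuasiSober.sober hZ.1 (isClosed_of_mem_irreducibleComponents Z hZ)
  have hzy : z ⤳ y := hz.specializes (hle (subset_closure rfl))
  have hzmin := closure_mem_irreducibleComponents_iff.mp (hz.def.symm ▸ hZ)
  have h1 : z = x := hne x (hA x hx) z (hA z (isWeakAssPoint_of_minimal hzmin)) (hzy.trans hy)
  subst h1
  exact (hy.antisymm hzy).eq

end Groth.Agent.MeroBasic
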