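import Groth.Agent.MeroBasic.DivBasic
import Groth.Agent.MeroBasic.RegularSection

/-! Invertible modules with a regular meromorphic section are the modules `O_X(D)`. -/

namespace Groth.Agent.MeroBasic

open AlgebraicGeometry CategoryTheory TopologicalSpace
open scoped nonZeroDivisors
open InvBasic

universe u

variable {X : Scheme.{u}} {L : X.Modules}

lemma mgerm_injective {U : X.Opens} {ℓ : Γ(L, U)} (hℓ : IsBasis L ℓ) (y : U) {m : L.presheaf.stalk y.1}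
    (h : (LocalizedModule.mk m 1 : Mero.MStalk L y.1) = 0) : m = 0 := by
  obtain ⟨c, rfl⟩ := (hℓ.stalk_bijective y.2).2 m
  have h1 : (LocalizedModule.mk c 1 : Mero.KStalk X y.1) • mgerm L ℓ y = 0 := by
    rw [kstalk_mk_smul_mk, mul_one]; exact h
  rw [(kstalk_mk_eq_zero_iff c 1).mp (eq_zero_of_smul_mgerm hℓ y h1)]
  exact zero_smul _ _

/-- Locally a regular meromorphic section is an invertible meromorphic function times a basis. -/
lemma exists_local_equation {s : Γ(Mero.merMod L, ⊤)} (hL : PicF.IsInvertible L)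
    (hs : Mero.IsRegularMero L s) (x : X) :
    ∃ (U : X.Opens) (_ : x ∈ U) (ℓ : Γ(L, U)) (g : (Γ(Mero.kmod X, U))ˣ), IsBasis L ℓ ∧
      ∀ y : U, s.1 ⟨y.1, trivial⟩ = (g : Γ(Mero.kmod X, U)).1 y • mgerm L ℓ y := by
  obtain ⟨U, hxU, ℓ, hℓ⟩ := exists_isBasis hL x
  obtain ⟨V, hxV, i, m, b, h⟩ := s.2 ⟨x, trivial⟩
  have hW : V ⊓ U ≤ U := inf_le_right
  let ℓ' : Γ(L, V ⊓ U) := L.presheaf.map (homOfLE hW).op ℓ
  obtain ⟨a, ha⟩ := (hℓ (V ⊓ U) hW).2 (L.presheaf.map (homOfLE (inf_le_left : V ⊓ U ≤ V)).op m)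
  let b' : Mero.regSub X (V ⊓ U) :=
    ⟨X.presheaf.map (homOfLE (inf_le_left : V ⊓ U ≤ V)).op b.1, Mero.regSub_res _ b.2⟩
  have hsy : ∀ y : ↥(V ⊓ U), s.1 ⟨y.1, trivial⟩ =
      (LocalizedModule.mk (X.presheaf.germ (V ⊓ U) y.1 y.2 a) (Mero.regGerm y b') :
        Mero.KStalk X y.1) • mgerm L ℓ' y := fun y ↦ by
    refine (h ⟨y.1, y.2.1⟩).trans ?_
    rw [kstalk_mk_smul_mk, ← InvBasic.germ_smul]
    refine Mero.mk_congr ?_ ?_
    · exact (TopCat.Presheaf.germ_res_apply L.presheaf _ y.1 y.2 m).symm.trans (congrArg _ ha.symm)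
    · rw [mul_one]
      exact (TopCat.Presheaf.germ_res_apply X.presheaf _ y.1 y.2 b.1).symm
  have hareg : a ∈ Mero.regSub X (V ⊓ U) := fun y ↦ by
    rw [mem_nonZeroDivisors_iff_left]
    intro c hc
    refine (kstalk_mk_eq_zero_iff c 1).mp (hs y.1 _ ?_)
    rw [hsy y, ← mul_smul, kstalk_mk_mul, mul_comm c, hc, LocalizedModule.zero_mk, zero_smul]
  let g : Γ(Mero.kmod X, V ⊓ U) :=
    ⟨fun y ↦ LocalizedModule.mk (X.presheaf.germ (V ⊓ U) y.1 y.2 a) (Mero.regGerm y b'),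
      fun y ↦ ⟨V ⊓ U, y.2, 𝟙 _, a, b', fun _ ↦ rfl⟩⟩
  let g' : Γ(Mero.kmod X, V ⊓ U) :=
    ⟨fun y ↦ LocalizedModule.mk (X.presheaf.germ (V ⊓ U) y.1 y.2 b'.1) (Mero.regGerm y ⟨a, hareg⟩),
      fun y ↦ ⟨V ⊓ U, y.2, 𝟙 _, b'.1, ⟨a, hareg⟩, fun _ ↦ rfl⟩⟩
  have hgg : g * g' = 1 := kmod_ext fun y ↦ by
    rw [Mero.kmod_mul_apply, Mero.kmod_one_apply]
    refine LocalizedModule.mk_mul_mk.trans ?_
    refine Eq.trans ?_ (Mero.mk_self_eq_one (Mero.regGerm y b' * Mero.regGerm y ⟨a, hareg⟩))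
    exact Mero.mk_congr (mul_comm _ _) rfl
  exact ⟨V ⊓ U, ⟨hxV, hxU⟩, ℓ', Units.mkOfMulEqOne g g' hgg, hℓ.restrict hW, hsy⟩

/-- An invertible module with a regular meromorphic section is `O_X(D)` for some divisor `D`. -/
theorem exists_iso_divMod' {s : Γ(Mero.merMod L, ⊤)} (hL : PicF.IsInvertible L)
    (hs : Mero.IsRegularMero L s) : ∃ (D : Mero.Divisor X) (e : L ≅ Mero.divMod D),
      ∀ (W : X.Opens) (m : Γ(L, W)) (y : W),
        (e.hom.app W m).1 y • s.1 ⟨y.1, trivial⟩ =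
          (LocalizedModule.mk (L.presheaf.germ W y.1 y.2 m) 1 : Mero.MStalk L y.1) := by
  choose U hxU ℓ g hℓ hg using exists_local_equation hL hs
  let G (x : X) (y : U x) : (Mero.KStalk X y.1)ˣ := Units.map (Mero.evalK X (U x) y).toMonoidHom (g x)
  have hG : ∀ (x : X) (y : U x), s.1 ⟨y.1, trivial⟩ = (G x y : Mero.KStalk X y.1) • mgerm L (ℓ x) y := hg
  -- two local equations differ by a unit of the local ring
  have hcls : ∀ (x x' : X) (y : X) (hy : y ∈ U x) (hy' : y ∈ U x'),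
      (QuotientGroup.mk (G x ⟨y, hy⟩) : Mero.Germ X y) = QuotientGroup.mk (G x' ⟨y, hy'⟩) := by
    intro x x' y hy hy'
    obtain ⟨v, hv⟩ := ((hℓ x).stalk_bijective hy).2 (L.presheaf.germ (U x') y hy' (ℓ x'))
    obtain ⟨w, hw⟩ := ((hℓ x').stalk_bijective hy').2 (L.presheaf.germ (U x) y hy (ℓ x))
    simp only at hv hw
    have hwv : v * w = 1 := ((hℓ x).stalk_bijective hy).1 (by
      simp only [one_smul]
      rw [mul_comm, mul_smul, hv, hw])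
    have h0 := (hG x ⟨y, hy⟩).symm.trans (hG x' ⟨y, hy'⟩)
    have h1 : mgerm L (ℓ x') ⟨y, hy'⟩ =
        (LocalizedModule.mk v 1 : Mero.KStalk X y) • mgerm L (ℓ x) ⟨y, hy⟩ := by
      rw [kstalk_mk_smul_mk, mul_one, hv]
    rw [h1, ← mul_smul, ← sub_eq_zero, ← sub_smul] at h0
    have h2 := sub_eq_zero.mp (eq_zero_of_smul_mgerm (hℓ x) ⟨y, hy⟩ h0)
    refine QuotientGroup.eq.mpr ⟨(IsUnit.of_mul_eq_one v (mul_comm v w ▸ hwv : w * v = 1)).unit, ?_⟩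
    rw [eq_inv_mul_iff_mul_eq]
    refine Units.ext ?_
    change (G x ⟨y, hy⟩ : Mero.KStalk X y) * algebraMap _ _ w = _
    rw [h2, mul_assoc, algebraMap_kstalk_eq_mk]
    refine (congrArg ((G x' ⟨y, hy'⟩ : Mero.KStalk X y) * ·) ?_).trans (mul_one _)
    refine LocalizedModule.mk_mul_mk.trans ?_
    rw [hwv, one_mul]
    exact Mero.mk_self_eq_one 1
  let D : Mero.Divisor X := ⟨fun x ↦ QuotientGroup.mk (G x ⟨x, hxU x⟩),
    fun x ↦ ⟨U x, hxU x, g x, fun y ↦ hcls y.1 x y.1 (hxU y.1) y.2⟩⟩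
  have hD : ∀ (x : X) (y : U x), D.1 y.1 = QuotientGroup.mk (G x y) :=
    fun x y ↦ hcls y.1 x y.1 (hxU y.1) y.2
  -- the quotient `m / s`
  choose c hc using fun (y : X) (m : L.presheaf.stalk y) ↦ ((hℓ y).stalk_bijective (hxU y)).2 m
  simp only at hc
  let τ (y : X) (m : L.presheaf.stalk y) : Mero.KStalk X y :=
    (LocalizedModule.mk (c y m) 1 : Mero.KStalk X y) * ((G y ⟨y, hxU y⟩)⁻¹ : (Mero.KStalk X y)ˣ).val
  have hτ : ∀ (y : X) (m : L.presheaf.stalk y),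
      τ y m • s.1 ⟨y, trivial⟩ = (LocalizedModule.mk m 1 : Mero.MStalk L y) := fun y m ↦ by
    rw [hG y ⟨y, hxU y⟩, ← mul_smul, mul_assoc]
    simp only [Units.inv_mul, mul_one]
    rw [kstalk_mk_smul_mk, mul_one, hc]
  have huniq : ∀ (y : X) (q q' : Mero.KStalk X y), q • s.1 ⟨y, trivial⟩ = q' • s.1 ⟨y, trivial⟩ → q = q' :=
    fun y q q' h ↦ sub_eq_zero.mp (hs y _ (by rw [sub_smul, sub_eq_zero]; exact h))
  have hloc : ∀ {W : X.Opens} (m : Γ(L, W)) (x : W),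
      ∃ (V : X.Opens) (_ : x.1 ∈ V) (hVW : V ≤ W) (hVU : V ≤ U x.1) (r : Γ(X, V)),
        ∀ z : V, τ z.1 (L.presheaf.germ W z.1 (hVW z.2) m) =
          (Mero.toK X V r).1 z * (↑(g x.1)⁻¹ : Γ(Mero.kmod X, U x.1)).1 ⟨z.1, hVU z.2⟩ := by
    intro W m x
    obtain ⟨r, hr⟩ := (hℓ x.1 (W ⊓ U x.1) inf_le_right).2 (L.presheaf.map (homOfLE inf_le_left).op m)
    refine ⟨W ⊓ U x.1, ⟨x.2, hxU x.1⟩, inf_le_left, inf_le_right, r, fun z ↦ huniq z.1 _ _ ?_⟩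
    rw [hτ, hG x.1 ⟨z.1, z.2.2⟩, ← mul_smul, mul_assoc,
      show (↑(g x.1)⁻¹ : Γ(Mero.kmod X, U x.1)).1 ⟨z.1, z.2.2⟩ * (G x.1 ⟨z.1, z.2.2⟩ : Mero.KStalk X z.1) = 1 from
        congrFun (congrArg Subtype.val (g x.1).inv_mul) ⟨z.1, z.2.2⟩, mul_one, Mero.toK_apply,
      kstalk_mk_smul_mk, mul_one]
    refine (congrArg (LocalizedModule.mk · 1) ?_)
    have := congrArg (L.presheaf.germ (W ⊓ U x.1) z.1 z.2) hr
    simpa only [InvBasic.germ_smul, TopCat.Presheaf.germ_res_apply] using this.symm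
  let app (W : X.Opens) (m : Γ(L, W)) : Γ(Mero.divMod D, W) :=
    ⟨fun z ↦ τ z.1 (L.presheaf.germ W z.1 z.2 m), fun x ↦ by
      obtain ⟨V, hxV, hVW, hVU, r, hr⟩ := hloc m x
      obtain ⟨Z, hxZ, i, a, b, hab⟩ :=
        (Mero.toK X V r * (Mero.kmod X).presheaf.map (homOfLE hVU).op (↑(g x.1)⁻¹ : Γ(Mero.kmod X, U x.1))).2 ⟨x.1, hxV⟩
      exact ⟨Z, hxZ, i ≫ homOfLE hVW, a, b, fun z ↦ (hr ⟨z.1, i.le z.2⟩).trans (hab z)⟩,
      fun z ↦ (divCond_iff (hD z.1 ⟨z.1, hxU z.1⟩) _).mpr ⟨c z.1 (L.presheaf.germ W z.1 z.2 m), by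
        rw [mul_assoc]
        simp only [Units.inv_mul, mul_one]
        rfl⟩⟩
  have hadd : ∀ (y : X) (m m' : L.presheaf.stalk y), τ y (m + m') = τ y m + τ y m' := fun y m m' ↦
    huniq y _ _ (by rw [add_smul, hτ, hτ, hτ, LocalizedModule.mk_add_mk]; simp)
  have hsmul : ∀ (y : X) (r : X.presheaf.stalk y) (m : L.presheaf.stalk y), τ y (r • m) = r • τ y m :=
    fun y r m ↦ huniq y _ _ (by rw [smul_assoc, hτ, hτ, LocalizedModule.smul'_mk])
  let φ : L ⟶ Mero.divMod D :=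
    ⟨PresheafOfModules.homMk (M₁ := L.val) (M₂ := (Mero.divMod D).val)
      { app := fun W ↦ AddCommGrpCat.ofHom
          { toFun := app W.unop
            map_zero' := Subtype.ext (funext fun z ↦ huniq z.1 (τ z.1 (L.presheaf.germ W.unop z.1 z.2 0)) 0
              ((hτ z.1 _).trans (by rw [map_zero, LocalizedModule.zero_mk, zero_smul])))
            map_add' := fun m m' ↦ Subtype.ext (funext fun z ↦
              (congrArg (τ z.1) (map_add _ m m')).trans (hadd _ _ _)) }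
        naturality := fun {W W'} i ↦ by
          ext m
          refine Subtype.ext (funext fun z ↦ ?_)
          exact congrArg (τ z.1) (TopCat.Presheaf.germ_res_apply' L.presheaf i z.1 z.2 m) }
      (fun W r m ↦ Subtype.ext (funext fun z ↦
        (congrArg (τ z.1) (InvBasic.germ_smul L W.unop z.1 z.2 r m)).trans (hsmul _ _ _)))⟩
  refine ⟨D, ?_⟩
  have hφ : ∀ (W : X.Opens) (m : Γ(L, W)) (y : W),
      (φ.app W m).1 y • s.1 ⟨y.1, trivial⟩ =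
        (LocalizedModule.mk (L.presheaf.germ W y.1 y.2 m) 1 : Mero.MStalk L y.1) := fun W m y ↦ hτ y.1 _
  have : IsIso φ := by
    rw [isIso_iff_mono_and_epi, Groth.Agent.QCohLib.mono_iff_app_injective,
      Groth.Agent.QCohLib.epi_iff_locally_surjective]
    refine ⟨fun W m m' h ↦ Groth.Agent.QCohLib.section_ext m m' fun z hz ↦ ?_, fun W t x hx ↦ ?_⟩
    · have h1 : τ z (L.presheaf.germ W z hz m) = τ z (L.presheaf.germ W z hz m') :=
        congrFun (congrArg Subtype.val h) ⟨z, hz⟩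
      rw [← sub_eq_zero]
      refine mgerm_injective (hℓ z) ⟨z, hxU z⟩ ?_
      rw [← hτ, show τ z (L.presheaf.germ W z hz m - L.presheaf.germ W z hz m') = 0 from ?_, zero_smul]
      have := hadd z (L.presheaf.germ W z hz m - L.presheaf.germ W z hz m') (L.presheaf.germ W z hz m')
      rw [sub_add_cancel, h1] at this
      exact add_eq_right.mp this.symm
    · obtain ⟨r, hr⟩ := (isBasis_invSection (g x) (hD x) (W ⊓ U x) inf_le_right).2
        ((Mero.divMod D).presheaf.map (homOfLE inf_le_left).op t)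
      refine ⟨W ⊓ U x, inf_le_left, ⟨r • L.presheaf.map (homOfLE inf_le_right).op (ℓ x), ?_⟩, hx, hxU x⟩
      refine Subtype.ext (funext fun z ↦ huniq z.1 _ _ ?_)
      rw [← hr]
      refine (hτ z.1 _).trans ?_
      rw [show (r • (Mero.divMod D).presheaf.map (homOfLE (inf_le_right : W ⊓ U x ≤ U x)).op
          (invSection (g x) (hD x)) : Γ(Mero.divMod D, W ⊓ U x)).1 z =
        (LocalizedModule.mk (X.presheaf.germ (W ⊓ U x) z.1 z.2 r) 1 : Mero.KStalk X z.1) *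
          (↑(g x)⁻¹ : Γ(Mero.kmod X, U x)).1 ⟨z.1, z.2.2⟩ from Algebra.smul_def (A := Mero.KStalk X z.1) _ _,
        hG x ⟨z.1, z.2.2⟩, ← mul_smul, mul_assoc,
        show (↑(g x)⁻¹ : Γ(Mero.kmod X, U x)).1 ⟨z.1, z.2.2⟩ * (G x ⟨z.1, z.2.2⟩ : Mero.KStalk X z.1) = 1 from
          congrFun (congrArg Subtype.val (g x).inv_mul) ⟨z.1, z.2.2⟩, mul_one, kstalk_mk_smul_mk, mul_one]
      refine congrArg (LocalizedModule.mk · 1) ?_
      rw [InvBasic.germ_smul, TopCat.Presheaf.germ_res_apply]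
  exact ⟨asIso φ, hφ⟩

/-- An invertible module with a regular meromorphic section is `O_X(D)` for some divisor `D`. -/
theorem exists_iso_divMod {s : Γ(Mero.merMod L, ⊤)} (hL : PicF.IsInvertible L)
    (hs : Mero.IsRegularMero L s) : ∃ D : Mero.Divisor X, Nonempty (L ≅ Mero.divMod D) :=
  let ⟨D, e, _⟩ := exists_iso_divMod' hL hs
  ⟨D, ⟨e⟩⟩

/-- A module isomorphic to some `O_X(D)` has a regular meromorphic section. -/
theorem hasRegularMero_of_iso_divMod {D : Mero.Divisor X} (e : L ≅ Mero.divMod D) : Mero.HasRegularMero L := by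
  choose U hxU g hg using D.2
  let ℓ (x : X) : Γ(L, U x) := e.inv.app (U x) (invSection (g x) (hg x))
  have hℓ : ∀ x, IsBasis L (ℓ x) := fun x W hW ↦ by
    have key : ∀ r : Γ(X, W), r • (L.presheaf.map (homOfLE hW).op (ℓ x) : Γ(L, W)) =
        e.inv.app W (r • ((Mero.divMod D).presheaf.map (homOfLE hW).op (invSection (g x) (hg x)) :
          Γ(Mero.divMod D, W))) := fun r ↦ by
      rw [Scheme.Modules.Hom.app_smul, Groth.Agent.QCohLib.app_map]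
    have hbij : Function.Bijective (e.inv.app W) := by
      refine ⟨Function.LeftInverse.injective (g := e.hom.app W) fun r ↦ ?_,
        Function.RightInverse.surjective (g := e.hom.app W) fun r ↦ ?_⟩
      · exact DFunLike.congr_fun (congrArg (fun φ ↦ (Scheme.Modules.Hom.app φ W).hom) e.inv_hom_id) r
      · exact DFunLike.congr_fun (congrArg (fun φ ↦ (Scheme.Modules.Hom.app φ W).hom) e.hom_inv_id) r
    rw [show (fun r : Γ(X, W) ↦ r • (L.presheaf.map (homOfLE hW).op (ℓ x) : Γ(L, W))) = _ from funext key]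
    exact hbij.comp (isBasis_invSection (g x) (hg x) W hW)
  have hcompat : ∀ (x x' y : X) (hy : y ∈ U x) (hy' : y ∈ U x'),
      (g x : Γ(Mero.kmod X, U x)).1 ⟨y, hy⟩ • mgerm L (ℓ x) ⟨y, hy⟩ =
        (g x' : Γ(Mero.kmod X, U x')).1 ⟨y, hy'⟩ • mgerm L (ℓ x') ⟨y, hy'⟩ := by
    intro x x' y hy hy'
    obtain ⟨v, hv⟩ := (isBasis_invSection (g x) (hg x) (U x ⊓ U x') inf_le_left).2
      ((Mero.divMod D).presheaf.map (homOfLE inf_le_right).op (invSection (g x') (hg x')))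
    have h1 : X.presheaf.germ (U x ⊓ U x') y ⟨hy, hy'⟩ v • L.presheaf.germ (U x) y hy (ℓ x) =
        L.presheaf.germ (U x') y hy' (ℓ x') := by
      have := congrArg (fun t ↦ L.presheaf.germ (U x ⊓ U x') y ⟨hy, hy'⟩ (e.inv.app (U x ⊓ U x') t)) hv
      simpa only [Scheme.Modules.Hom.app_smul, Groth.Agent.QCohLib.app_map, InvBasic.germ_smul,
        TopCat.Presheaf.germ_res_apply, ℓ] using this
    have h2 : (LocalizedModule.mk (X.presheaf.germ (U x ⊓ U x') y ⟨hy, hy'⟩ v) 1 : Mero.KStalk X y) *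
        (↑(g x)⁻¹ : Γ(Mero.kmod X, U x)).1 ⟨y, hy⟩ = (↑(g x')⁻¹ : Γ(Mero.kmod X, U x')).1 ⟨y, hy'⟩ :=
      (Algebra.smul_def (A := Mero.KStalk X y) _ _).symm.trans (congrFun (congrArg Subtype.val hv) ⟨y, hy, hy'⟩)
    have i1 : (↑(g x)⁻¹ : Γ(Mero.kmod X, U x)).1 ⟨y, hy⟩ * (g x : Γ(Mero.kmod X, U x)).1 ⟨y, hy⟩ = 1 :=
      congrFun (congrArg Subtype.val (g x).inv_mul) ⟨y, hy⟩
    have i2 : (↑(g x')⁻¹ : Γ(Mero.kmod X, U x')).1 ⟨y, hy'⟩ * (g x' : Γ(Mero.kmod X, U x')).1 ⟨y, hy'⟩ = 1 :=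
      congrFun (congrArg Subtype.val (g x').inv_mul) ⟨y, hy'⟩
    rw [show (g x : Γ(Mero.kmod X, U x)).1 ⟨y, hy⟩ = (g x' : Γ(Mero.kmod X, U x')).1 ⟨y, hy'⟩ *
      LocalizedModule.mk (X.presheaf.germ (U x ⊓ U x') y ⟨hy, hy'⟩ v) 1 from ?_, mul_smul,
      kstalk_mk_smul_mk, mul_one, h1]
    rw [← h2] at i2
    calc _ = _ * ((LocalizedModule.mk (X.presheaf.germ (U x ⊓ U x') y ⟨hy, hy'⟩ v) 1 : Mero.KStalk X y) *
          (↑(g x)⁻¹ : Γ(Mero.kmod X, U x)).1 ⟨y, hy⟩ * (g x' : Γ(Mero.kmod X, U x')).1 ⟨y, hy'⟩) := by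
            rw [i2, mul_one]
      _ = (g x' : Γ(Mero.kmod X, U x')).1 ⟨y, hy'⟩ *
          (LocalizedModule.mk (X.presheaf.germ (U x ⊓ U x') y ⟨hy, hy'⟩ v) 1 : Mero.KStalk X y) *
          ((↑(g x)⁻¹ : Γ(Mero.kmod X, U x)).1 ⟨y, hy⟩ * (g x : Γ(Mero.kmod X, U x)).1 ⟨y, hy⟩) := by ring
      _ = _ := by rw [i1, mul_one]
  refine ⟨⟨fun y ↦ (g y.1 : Γ(Mero.kmod X, U y.1)).1 ⟨y.1, hxU y.1⟩ • mgerm L (ℓ y.1) ⟨y.1, hxU y.1⟩,
    fun y ↦ ?_⟩, fun x q hq ↦ ?_⟩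
  · obtain ⟨V, hV, i, m, b, h⟩ := mLoc_smul_mgerm (ℓ y.1) (g y.1 : Γ(Mero.kmod X, U y.1)) ⟨y.1, hxU y.1⟩
    exact ⟨V, hV, homOfLE le_top, m, b, fun z ↦
      (hcompat z.1 y.1 z.1 (hxU _) (i.le z.2)).trans (h z)⟩
  · have h2 := eq_zero_of_smul_mgerm (hℓ x) ⟨x, hxU x⟩
      (q := q * (g x : Γ(Mero.kmod X, U x)).1 ⟨x, hxU x⟩) (by rw [mul_smul]; exact hq)
    have h1 : (g x : Γ(Mero.kmod X, U x)).1 ⟨x, hxU x⟩ * (↑(g x)⁻¹ : Γ(Mero.kmod X, U x)).1 ⟨x, hxU x⟩ = 1 :=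
      congrFun (congrArg Subtype.val (g x).mul_inv) ⟨x, hxU x⟩
    rw [← mul_one q, ← h1, ← mul_assoc, h2, zero_mul]

end Groth.Agent.MeroBasic
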