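import Groth.Agent.MeroBasic.Extend
import Groth.Agent.MeroBasic.DivIso
import Groth.Agent.InvBasic.QCoh
import Groth.Agent.QCohLib.Sections

/-! Regular meromorphic sections when the associated points lie in one affine open. -/

namespace Groth.Agent.MeroBasic

open AlgebraicGeometry CategoryTheory TopologicalSpace
open scoped nonZeroDivisors
open InvBasic

universe u

variable {X : Scheme.{u}} {L : X.Modules}

/-- The germ of `m` generates the stalk with a unit coefficient, hence `m` is a basis nearby. -/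
lemma exists_isBasis_nhd {U : X.Opens} {ℓ : Γ(L, U)} (hℓ : IsBasis L ℓ) {W : X.Opens} (m : Γ(L, W))
    {x : X} (hxU : x ∈ U) (hxW : x ∈ W) {c : X.presheaf.stalk x} (hc : IsUnit c)
    (h : c • L.presheaf.germ U x hxU ℓ = L.presheaf.germ W x hxW m) :
    ∃ (V : X.Opens) (_ : x ∈ V) (hVW : V ≤ W), IsBasis L (L.presheaf.map (homOfLE hVW).op m : Γ(L, V)) := by
  obtain ⟨v, hv⟩ := (hℓ (W ⊓ U) inf_le_right).2 (L.presheaf.map (homOfLE (inf_le_left : W ⊓ U ≤ W)).op m)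
  have hv1 : X.presheaf.germ (W ⊓ U) x ⟨hxW, hxU⟩ v = c := by
    refine (hℓ.stalk_bijective hxU).1 ?_
    simp only
    rw [h]
    have := congrArg (L.presheaf.germ (W ⊓ U) x ⟨hxW, hxU⟩) hv
    simpa only [InvBasic.germ_smul, TopCat.Presheaf.germ_res_apply] using this
  have hxv : x ∈ X.basicOpen v := (X.mem_basicOpen v x ⟨hxW, hxU⟩).mpr (hv1 ▸ hc)
  have hVW : X.basicOpen v ≤ W := (X.basicOpen_le v).trans inf_le_left
  refine ⟨X.basicOpen v, hxv, hVW, fun Z hZ ↦ ?_⟩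
  have hZWU : Z ≤ W ⊓ U := hZ.trans (X.basicOpen_le v)
  let vZ : Γ(X, Z) := X.presheaf.map (homOfLE hZWU).op v
  have hvu : IsUnit vZ := by
    have := (X.toRingedSpace.isUnit_res_basicOpen v).map (X.presheaf.map (homOfLE hZ).op).hom
    convert this using 1
    exact (Groth.Agent.QCohLib.ring_map_map hZ (X.basicOpen_le v) v).symm
  have heq : ∀ r : Γ(X, Z), r • (L.presheaf.map (homOfLE hZ).op (L.presheaf.map (homOfLE hVW).op m) : Γ(L, Z)) =
      (r * vZ) • (L.presheaf.map (homOfLE (hZWU.trans inf_le_right)).op ℓ : Γ(L, Z)) := fun r ↦ by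
    have := congrArg (L.presheaf.map (homOfLE hZWU).op) hv
    simp only [Scheme.Modules.map_smul, Groth.Agent.QCohLib.map_map] at this
    rw [mul_smul, Groth.Agent.QCohLib.map_map, ← this]
  rw [show (fun r : Γ(X, Z) ↦ r • (L.presheaf.map (homOfLE hZ).op (L.presheaf.map (homOfLE hVW).op m) : Γ(L, Z)))
    = _ from funext heq]
  exact (hℓ Z (hZWU.trans inf_le_right)).comp (hvu.unit.mulRight.bijective)

lemma weakAss_pr_mem [IsLocallyNoetherian X] {W : X.Opens} (hW : IsAffineOpen W)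
    {S : Finset (Ideal Γ(X, W))}
    (hcover : ∀ (x : X) (hx : x ∈ W) (a : Γ(X, W)), X.presheaf.germ W x hx a ∉ (X.presheaf.stalk x)⁰ →
      ∃ p ∈ S, p ≤ pr hW x hx ∧ a ∈ p)
    (hmin : ∀ p ∈ S, ∃ (x : X) (hx : x ∈ W), pr hW x hx = p ∧ ∀ g ∈ (X.presheaf.stalk x)⁰, IsUnit g)
    {x : X} (hx : x ∈ W) (hw : Curv2.IsWeakAssPoint (Coh.structureModule X) x) : pr hW x hx ∈ S := by
  classical
  have hsub : (pr hW x hx : Set Γ(X, W)) ⊆
      ⋃ p ∈ (↑(S.filter (· ≤ pr hW x hx)) : Set (Ideal Γ(X, W))), (p : Set Γ(X, W)) := by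
    intro a ha
    have hna : X.presheaf.germ W x hx a ∉ (X.presheaf.stalk x)⁰ := fun h ↦ (isUnit_germ_iff hW a).mp
      (isUnit_of_mem_nonZeroDivisors_of_isAssociatedPrime
        (isAssociatedPrime_maximalIdeal_of_isWeakAssPoint hw) h) ha
    obtain ⟨p, hp, hpx, hap⟩ := hcover x hx a hna
    exact Set.mem_biUnion (Finset.mem_filter.mpr ⟨hp, hpx⟩) hap
  obtain ⟨p, hp, hle⟩ := (Ideal.subset_union_prime ⊥ ⊥ (fun p hp _ _ ↦ by
    obtain ⟨y, hy, rfl, -⟩ := hmin p (Finset.mem_filter.mp hp).1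
    exact (hW.primeIdealOf ⟨y, hy⟩).isPrime)).mp hsub
  obtain ⟨hpS, hpx⟩ := Finset.mem_filter.mp hp
  rwa [le_antisymm hle hpx]

lemma exists_section_isBasis_near_weakAss [IsLocallyNoetherian X] {W : X.Opens} (hW : IsAffineOpen W)
    (hL : PicF.IsInvertible L) :
    ∃ m : Γ(L, W), ∀ x ∈ W, Curv2.IsWeakAssPoint (Coh.structureModule X) x →
      ∃ (V : X.Opens) (_ : x ∈ V) (hVW : V ≤ W), IsBasis L (L.presheaf.map (homOfLE hVW).op m : Γ(L, V)) := by
  classical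
  have := isQuasicoherent_of_isInvertible hL
  obtain ⟨S, hcover, hmin⟩ := noetherian_good (X := X) hW
  let M := S.filter fun q ↦ ∀ q' ∈ S, q ≤ q' → q' = q
  choose pt hpt hppt _ using fun q : M ↦ hmin q.1 (Finset.mem_filter.mp q.2).1
  choose U hU ℓ hℓ using fun q : M ↦ exists_isBasis hL (pt q)
  choose f hfU hf using fun q : M ↦ hW.exists_basicOpen_le ⟨pt q, hU q⟩ (hpt q)
  choose n sec hsec using fun q : M ↦ Groth.Agent.QCohLib.exists_res_eq_pow_smul (M := L) hW (f q) _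
    (X.basicOpen_le (f q)) rfl (L.presheaf.map (homOfLE (hfU q)).op (ℓ q))
  have he : ∀ q : M, ∃ e : Γ(X, W), e ∉ q.1 ∧ ∀ q' : M, q' ≠ q → e ∈ q'.1 := by
    intro q
    have hw : ∀ q' : M, q' ≠ q → ∃ w ∈ q'.1, w ∉ q.1 := fun q' hne ↦
      SetLike.not_le_iff_exists.mp fun hle ↦ hne (Subtype.ext
        ((Finset.mem_filter.mp q'.2).2 q.1 (Finset.mem_filter.mp q.2).1 hle).symm)
    choose w hw1 hw2 using hw
    refine ⟨∏ q' ∈ (Finset.univ.erase q).attach, w q'.1 (Finset.ne_of_mem_erase q'.2), fun h ↦ ?_,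
      fun q' hne ↦ ?_⟩
    · have hqp : q.1.IsPrime := hppt q ▸ (hW.primeIdealOf ⟨pt q, hpt q⟩).isPrime
      obtain ⟨q', -, h'⟩ := hqp.prod_mem_iff.mp h
      exact hw2 _ _ h'
    · exact Ideal.mem_of_dvd _ (Finset.dvd_prod_of_mem _
        (Finset.mem_attach _ ⟨q', Finset.mem_erase.mpr ⟨hne, Finset.mem_univ _⟩⟩)) (hw1 q' _)
  choose e hee he0 using he
  refine ⟨∑ q : M, e q • sec q, fun x hx hw ↦ ?_⟩
  have hxS := weakAss_pr_mem hW hcover hmin hx hw
  obtain ⟨q, hqS, hqmax⟩ := (S.filter (pr hW x hx ≤ ·)).exists_maximal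
    ⟨_, Finset.mem_filter.mpr ⟨hxS, le_rfl⟩⟩
  obtain ⟨hqS', hxq⟩ := Finset.mem_filter.mp hqS
  let q0 : M := ⟨q, Finset.mem_filter.mpr ⟨hqS', fun q' hq' hle ↦
    le_antisymm (hqmax (Finset.mem_filter.mpr ⟨hq', hxq.trans hle⟩) hle) hle⟩⟩
  have hsp : x ⤳ pt q0 := by
    have h1 := specializes_of_le hW (hx := hpt q0) (hW.primeIdealOf ⟨x, hx⟩) (by rw [hppt q0]; exact hxq)
    rwa [hW.fromSpec_primeIdealOf] at h1
  -- coefficients of the summands at the maximal point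
  choose c hc using fun q : M ↦ ((hℓ q0).stalk_bijective (hU q0)).2
    (L.presheaf.germ W (pt q0) (hpt q0) (e q • sec q))
  simp only at hc
  have hu : IsUnit (c q0) := by
    have hmem : pt q0 ∈ X.basicOpen (f q0) := hf q0
    have h1 := congrArg (L.presheaf.germ (X.basicOpen (f q0)) (pt q0) hmem) (hsec q0)
    simp only [InvBasic.germ_smul, TopCat.Presheaf.germ_res_apply, map_pow] at h1
    have h2 : c q0 = X.presheaf.germ W (pt q0) (hpt q0) (e q0) * X.presheaf.germ W (pt q0) (hpt q0) (f q0) ^ n q0 := by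
      refine ((hℓ q0).stalk_bijective (hU q0)).1 ?_
      simp only
      rw [hc, InvBasic.germ_smul, h1, mul_smul]
    rw [h2]
    refine IsUnit.mul ?_ (((X.mem_basicOpen (f q0) _ (hpt q0)).mp hmem).pow _)
    rw [isUnit_germ_iff hW, hppt]
    exact hee q0
  have hm : ∀ q : M, q ≠ q0 → c q ∈ IsLocalRing.maximalIdeal (X.presheaf.stalk (pt q0)) := by
    intro q hne
    obtain ⟨d, hd⟩ := ((hℓ q0).stalk_bijective (hU q0)).2 (L.presheaf.germ W (pt q0) (hpt q0) (sec q))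
    have h2 : c q = X.presheaf.germ W (pt q0) (hpt q0) (e q) * d := by
      refine ((hℓ q0).stalk_bijective (hU q0)).1 ?_
      simp only at hd ⊢
      rw [hc, InvBasic.germ_smul, mul_smul, hd]
    rw [h2]
    refine Ideal.mul_mem_right _ _ ?_
    rw [IsLocalRing.mem_maximalIdeal, mem_nonunits_iff, isUnit_germ_iff hW, hppt, not_not]
    exact he0 q q0 (Ne.symm hne)
  have hsum : IsUnit (∑ q : M, c q) := by
    rw [← Finset.add_sum_erase _ _ (Finset.mem_univ q0)]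
    by_contra hnu
    have h1 : ∑ q ∈ Finset.univ.erase q0, c q ∈ IsLocalRing.maximalIdeal (X.presheaf.stalk (pt q0)) :=
      Ideal.sum_mem _ fun q hq ↦ hm q (Finset.ne_of_mem_erase hq)
    exact (((Ideal.add_mem_iff_left _ h1).mp hnu) : c q0 ∈ IsLocalRing.maximalIdeal _) hu
  obtain ⟨V, hV, hVW, hbasis⟩ := exists_isBasis_nhd (hℓ q0) (∑ q : M, e q • sec q) (hU q0) (hpt q0) hsum
    (by rw [Finset.sum_smul, map_sum]; exact Finset.sum_congr rfl fun q _ ↦ hc q)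
  exact ⟨V, hsp.mem_open V.isOpen hV, hVW, hbasis⟩

/-- If the associated points lie in an affine open, there is a regular meromorphic section. -/
theorem hasRegularMero_of_ass_subset_affine [IsLocallyNoetherian X] {W : X.Opens} (hW : IsAffineOpen W)
    (hass : ∀ x : X, Curv2.IsWeakAssPoint (Coh.structureModule X) x → x ∈ W)
    (hL : PicF.IsInvertible L) : Mero.HasRegularMero L := by
  classical
  obtain ⟨m, hm⟩ := exists_section_isBasis_near_weakAss hW hL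
  let P : Set X := {x | ∃ (V : X.Opens) (_ : x ∈ V) (hVW : V ≤ W),
    IsBasis L (L.presheaf.map (homOfLE hVW).op m : Γ(L, V))}
  have hPopen : IsOpen P := isOpen_iff_mem_nhds.mpr fun x ⟨V, hx, hVW, hV⟩ ↦
    Filter.mem_of_superset (V.isOpen.mem_nhds hx) fun y hy ↦ ⟨V, hy, hVW, hV⟩
  let V₀ : X.Opens := ⟨P, hPopen⟩
  have hV₀W : V₀ ≤ W := fun x ⟨V, hx, hVW, _⟩ ↦ hVW hx
  have hdense : ∀ (U Z : X.Opens), Z ≤ U →
      Function.Injective (X.presheaf.map (homOfLE (inf_le_left : Z ⊓ (U ⊓ V₀) ≤ Z)).op) := fun U Z hZ ↦ by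
    rw [injective_iff_map_eq_zero]
    intro a ha
    refine eq_zero_of_germ_weakAss a fun η hη hw ↦ ?_
    have := congrArg (X.presheaf.germ (Z ⊓ (U ⊓ V₀)) η ⟨hη, hZ hη, hm η (hass η hw) hw⟩) ha
    simpa only [TopCat.Presheaf.germ_res_apply, map_zero] using this
  choose U hxU ℓ hℓ using exists_isBasis hL
  choose v hv using fun x ↦ (hℓ x (U x ⊓ V₀) inf_le_left).2
    (L.presheaf.map (homOfLE ((inf_le_right : U x ⊓ V₀ ≤ V₀).trans hV₀W)).op m)
  have hv' : ∀ (x y : X) (hy : y ∈ U x ⊓ V₀), X.presheaf.germ _ y hy (v x) •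
      L.presheaf.germ (U x) y hy.1 (ℓ x) = L.presheaf.germ W y (hV₀W hy.2) m := fun x y hy ↦ by
    have := congrArg (L.presheaf.germ _ y hy) (hv x)
    simpa only [InvBasic.germ_smul, TopCat.Presheaf.germ_res_apply] using this
  have hvu : ∀ x, IsUnit (v x) := fun x ↦ by
    refine (X.toRingedSpace.isUnit_of_isUnit_germ _ (v x) fun y hy ↦ ?_)
    obtain ⟨V, hyV, hVW, hV⟩ := hy.2
    obtain ⟨d, hd⟩ := (hV.stalk_bijective hyV).2 (L.presheaf.germ (U x) y hy.1 (ℓ x))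
    refine IsUnit.of_mul_eq_one d ?_
    refine ((hℓ x).stalk_bijective hy.1).1 ?_
    simp only [one_smul] at hd ⊢
    rw [mul_comm, mul_smul]
    refine Eq.trans ?_ hd
    congr 1
    refine (hv' x y hy).trans ?_
    exact (TopCat.Presheaf.germ_res_apply L.presheaf _ y hyV m).symm
  choose s hs using fun x ↦ exists_extension_noetherian (U := U x) (V := U x ⊓ V₀) (hdense (U x)) (v x)
  choose t ht using fun x ↦ exists_extension_noetherian (U := U x) (V := U x ⊓ V₀) (hdense (U x))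
    (↑(hvu x).unit⁻¹ : Γ(X, U x ⊓ V₀))
  have hst : ∀ x, s x * t x = 1 := fun x ↦ kmod_map_injective (inf_le_left : U x ⊓ V₀ ≤ U x) (hdense (U x))
    (kmod_ext fun z ↦ by
      change (s x).1 ⟨z.1, z.2.1⟩ * (t x).1 ⟨z.1, z.2.1⟩ = 1
      rw [hs x z.1 z.2.1 z.2, ht x z.1 z.2.1 z.2, kstalk_mk_mul, ← map_mul, (hvu x).mul_val_inv, map_one]
      exact Mero.mk_self_eq_one 1)
  have hcompat : ∀ (x x' y : X) (hy : y ∈ U x) (hy' : y ∈ U x'),
      (s x).1 ⟨y, hy⟩ • mgerm L (ℓ x) ⟨y, hy⟩ = (s x').1 ⟨y, hy'⟩ • mgerm L (ℓ x') ⟨y, hy'⟩ := by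
    intro x x' y hy hy'
    let T := U x ⊓ U x'
    obtain ⟨w, hw⟩ := (hℓ x T inf_le_left).2 (L.presheaf.map (homOfLE (inf_le_right : T ≤ U x')).op (ℓ x'))
    have hw' : ∀ z : T, L.presheaf.germ (U x') z.1 z.2.2 (ℓ x') =
        X.presheaf.germ T z.1 z.2 w • L.presheaf.germ (U x) z.1 z.2.1 (ℓ x) := fun z ↦ by
      have := congrArg (L.presheaf.germ T z.1 z.2) hw
      simpa only [InvBasic.germ_smul, TopCat.Presheaf.germ_res_apply] using this.symm
    have hK : (Mero.kmod X).presheaf.map (homOfLE (inf_le_left : T ≤ U x)).op (s x) =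
        Mero.toK X T w * (Mero.kmod X).presheaf.map (homOfLE (inf_le_right : T ≤ U x')).op (s x') :=
      kmod_map_injective (inf_le_left : T ⊓ V₀ ≤ T) (hdense T) (kmod_ext fun z ↦ by
        have hcv : X.presheaf.germ (U x ⊓ V₀) z.1 ⟨z.2.1.1, z.2.2⟩ (v x) =
            X.presheaf.germ T z.1 z.2.1 w * X.presheaf.germ (U x' ⊓ V₀) z.1 ⟨z.2.1.2, z.2.2⟩ (v x') := by
          refine ((hℓ x).stalk_bijective z.2.1.1).1 ?_
          simp only
          rw [hv' x, mul_comm, mul_smul, ← hw' ⟨z.1, z.2.1⟩, hv' x']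
        change (s x).1 ⟨z.1, z.2.1.1⟩ = (Mero.toK X T w).1 ⟨z.1, z.2.1⟩ * (s x').1 ⟨z.1, z.2.1.2⟩
        rw [hs x z.1 z.2.1.1 ⟨z.2.1.1, z.2.2⟩, hs x' z.1 z.2.1.2 ⟨z.2.1.2, z.2.2⟩, Mero.toK_apply,
          kstalk_mk_mul, hcv])
    have h1 := congrFun (congrArg Subtype.val hK) ⟨y, hy, hy'⟩
    rw [toK_mul_apply] at h1
    rw [show (s x).1 ⟨y, hy⟩ = (LocalizedModule.mk (X.presheaf.germ T y ⟨hy, hy'⟩ w) 1 : Mero.KStalk X y) *
      (s x').1 ⟨y, hy'⟩ from h1, mul_comm, mul_smul, kstalk_mk_smul_mk, mul_one]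
    exact congrArg _ (Mero.mk_congr (hw' ⟨y, hy, hy'⟩).symm rfl)
  refine ⟨⟨fun y ↦ (s y.1).1 ⟨y.1, hxU y.1⟩ • mgerm L (ℓ y.1) ⟨y.1, hxU y.1⟩, fun y ↦ ?_⟩, fun x q hq ↦ ?_⟩
  · obtain ⟨V, hV, i, m, b, h⟩ := mLoc_smul_mgerm (ℓ y.1) (s y.1) ⟨y.1, hxU y.1⟩
    exact ⟨V, hV, homOfLE le_top, m, b, fun z ↦
      (hcompat z.1 y.1 z.1 (hxU _) (i.le z.2)).trans (h z)⟩
  · have h2 := eq_zero_of_smul_mgerm (hℓ x) ⟨x, hxU x⟩ (q := q * (s x).1 ⟨x, hxU x⟩) (by
      rw [mul_smul]; exact hq)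
    have h1 : (s x).1 ⟨x, hxU x⟩ * (t x).1 ⟨x, hxU x⟩ = 1 := congrFun (congrArg Subtype.val (hst x)) _
    rw [← mul_one q, ← h1, ← mul_assoc, h2, zero_mul]

end Groth.Agent.MeroBasic
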