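import Groth.Agent.MeroBasic.DivIso
import Groth.Agent.InvBasic.QCoh
import Groth.Agent.QCohLib.Sections

/-! The ideal of denominators of a regular meromorphic section. -/

namespace Groth.Agent.MeroBasic

open AlgebraicGeometry CategoryTheory TopologicalSpace
open scoped nonZeroDivisors
open InvBasic

universe u

variable {X : Scheme.{u}} {L : X.Modules}

lemma exists_pow_smul_mstalk_eq_zero (hL : PicF.IsInvertible L) {U : X.Opens} (hU : IsCompact (U : Set X))
    (f : Γ(X, U)) (φ : ∀ y : U, Mero.MStalk L y.1) (hφ : (Mero.mLoc L).pred φ)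
    (h0 : ∀ y : U, y.1 ∈ X.basicOpen f → φ y = 0) :
    ∃ n : ℕ, ∀ y : U, X.presheaf.germ U y.1 y.2 f ^ n • φ y = 0 := by
  have := isQuasicoherent_of_isInvertible hL
  have hloc : ∀ x : U, ∃ W : X.Opens, x.1 ∈ W ∧ ∃ hW : W ≤ U, ∃ n : ℕ, ∀ y : W,
      X.presheaf.germ U y.1 (hW y.2) f ^ n • φ ⟨y.1, hW y.2⟩ = 0 := by
    intro x
    obtain ⟨V, hV, i, m, b, h⟩ := hφ x
    obtain ⟨_, ⟨W, hWa, rfl⟩, hxW, hWV⟩ := X.isBasis_affineOpens.exists_subset_of_mem_open hV V.isOpen
    replace hWV : W ≤ V := hWV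
    have hWU : W ≤ U := hWV.trans i.le
    let f' : Γ(X, W) := X.presheaf.map (homOfLE hWU).op f
    let m' : Γ(L, W) := L.presheaf.map (homOfLE hWV).op m
    have hm : L.presheaf.map (homOfLE (X.basicOpen_le f')).op m' = 0 := by
      refine Groth.Agent.QCohLib.section_ext _ _ fun y hy ↦ ?_
      rw [map_zero, TopCat.Presheaf.germ_res_apply, TopCat.Presheaf.germ_res_apply]
      have hy' : y ∈ X.basicOpen f := by
        have := X.basicOpen_res f (homOfLE hWU).op
        rw [this] at hy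
        exact hy.2
      have hyV : y ∈ V := hWV (by
        have := X.basicOpen_res f (homOfLE hWU).op
        rw [this] at hy
        exact hy.1)
      have h1 := h0 ⟨y, i.le hyV⟩ hy'
      rw [show φ ⟨y, i.le hyV⟩ = _ from h ⟨y, hyV⟩,
        ← LocalizedModule.zero_mk (S := Mero.regStalk X y) (Mero.regGerm ⟨y, hyV⟩ b), LocalizedModule.mk_eq] at h1
      obtain ⟨w, hw⟩ := h1
      simp only [Submonoid.smul_def, smul_zero, smul_smul] at hw
      obtain ⟨U', hyU', ℓ, hℓ⟩ := exists_isBasis hL y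
      refine mgerm_injective hℓ ⟨y, hyU'⟩ ?_
      rw [← LocalizedModule.zero_mk (S := Mero.regStalk X y) 1, LocalizedModule.mk_eq]
      refine ⟨w * Mero.regGerm ⟨y, hyV⟩ b, ?_⟩
      simp only [one_smul, smul_zero, Submonoid.smul_def, Submonoid.coe_mul]
      exact hw
    obtain ⟨n, hn⟩ := Groth.Agent.QCohLib.exists_pow_smul_eq_zero (M := L) hWa f' _ (X.basicOpen_le f') rfl m' hm
    refine ⟨W, hxW, hWU, n, fun y ↦ ?_⟩
    rw [show φ ⟨y.1, hWU y.2⟩ = _ from h ⟨y.1, hWV y.2⟩, LocalizedModule.smul'_mk]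
    have h2 := congrArg (L.presheaf.germ W y.1 y.2) hn
    simp only [InvBasic.germ_smul, map_pow, map_zero, f', m', TopCat.Presheaf.germ_res_apply] at h2
    rw [h2, LocalizedModule.zero_mk]
  choose W hxW hWU n hn using hloc
  obtain ⟨t, ht⟩ := hU.elim_finite_subcover (fun x : U ↦ (W x : Set X)) (fun x ↦ (W x).isOpen)
    (fun x hx ↦ Set.mem_iUnion.mpr ⟨⟨x, hx⟩, hxW ⟨x, hx⟩⟩)
  refine ⟨t.sup n, fun y ↦ ?_⟩
  obtain ⟨x, hx, hyx⟩ := Set.mem_iUnion₂.mp (ht y.2)
  obtain ⟨k, hk⟩ := Nat.exists_eq_add_of_le (Finset.le_sup (f := n) hx)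
  rw [hk, add_comm (n x) k, pow_add, mul_smul, hn x ⟨y.1, hyx⟩, smul_zero]

theorem exists_denominator_idealSheaf (hL : PicF.IsInvertible L) (s : Γ(Mero.merMod L, ⊤)) :
    ∃ I : X.IdealSheafData, (∀ U : X.affineOpens, I.ideal U = Mero.denomIdeal L s U.1) ∧
      interior (I.support : Set X) = ∅ := by
  have hqc := isQuasicoherent_of_isInvertible hL
  have hres : ∀ (U V : X.Opens) (h : V ≤ U) (a : Γ(X, U)), a ∈ Mero.denomIdeal L s U →
      X.presheaf.map (homOfLE h).op a ∈ Mero.denomIdeal L s V := by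
    rintro U V h a ⟨m, hm⟩
    refine ⟨L.presheaf.map (homOfLE h).op m, fun y ↦ ?_⟩
    rw [TopCat.Presheaf.germ_res_apply, TopCat.Presheaf.germ_res_apply]
    exact hm ⟨y.1, h y.2⟩
  have hmap : ∀ (U : X.affineOpens) (f : Γ(X, U)),
      (Mero.denomIdeal L s U.1).map (X.presheaf.map (homOfLE <| X.basicOpen_le f).op).hom =
        Mero.denomIdeal L s (X.basicOpen f) := by
    intro U f
    refine le_antisymm (Ideal.map_le_iff_le_comap.mpr fun a ha ↦ hres _ _ _ a ha) fun φ hφ ↦ ?_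
    obtain ⟨m, hm⟩ := hφ
    have hloc := U.2.isLocalization_basicOpen f
    obtain ⟨⟨a, ⟨_, n, rfl⟩⟩, ha⟩ := IsLocalization.surj (Submonoid.powers f) (S := Γ(X, X.basicOpen f)) φ
    obtain ⟨k, m', hm'⟩ := Groth.Agent.QCohLib.exists_res_eq_pow_smul (M := L) U.2 f _
      (X.basicOpen_le f) rfl ((X.presheaf.map (homOfLE (X.basicOpen_le f)).op f) ^ n • m)
    let ψ : ∀ y : (U.1 : X.Opens), Mero.MStalk L y.1 := fun y ↦
      X.presheaf.germ U.1 y.1 y.2 (f ^ k * a) • s.1 ⟨y.1, trivial⟩ -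
        LocalizedModule.mkLinearMap (Mero.regStalk X y.1) _ (L.presheaf.germ U.1 y.1 y.2 m')
    have hψ : (Mero.mLoc L).pred ψ :=
      ((f ^ k * a) • (Mero.merMod L).presheaf.map (homOfLE le_top).op s - Mero.toMerFun L U.1 m' :
        Γ(Mero.merMod L, U.1)).2
    obtain ⟨N, hN⟩ := exists_pow_smul_mstalk_eq_zero hL U.2.isCompact f ψ hψ (by
      intro y hy
      have e1 := congrArg (X.presheaf.germ (X.basicOpen f) y.1 hy) ha
      have e2 := congrArg (L.presheaf.germ (X.basicOpen f) y.1 hy) hm'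
      simp only [RingHom.algebraMap_toAlgebra, map_mul, map_pow, TopCat.Presheaf.germ_res_apply] at e1
      simp only [InvBasic.germ_smul, map_pow, TopCat.Presheaf.germ_res_apply] at e2
      change _ • _ - _ = 0
      rw [sub_eq_zero, map_mul, map_pow, mul_smul, ← e1, mul_comm, mul_smul, hm ⟨y.1, hy⟩, ← map_smul,
        ← map_smul, e2])
    have hmem : f ^ N * (f ^ k * a) ∈ Mero.denomIdeal L s U.1 := by
      refine ⟨f ^ N • m', fun y ↦ ?_⟩
      have h1 := hN y
      simp only [ψ, smul_sub, sub_eq_zero] at h1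
      rw [map_mul, mul_smul, InvBasic.germ_smul, map_smul, map_pow]
      exact h1
    have hfu : IsUnit (X.presheaf.map (homOfLE (X.basicOpen_le f)).op f) := X.toRingedSpace.isUnit_res_basicOpen f
    have := Ideal.mem_map_of_mem (X.presheaf.map (homOfLE <| X.basicOpen_le f).op).hom hmem
    simp only [map_mul, map_pow] at this
    simp only [RingHom.algebraMap_toAlgebra, map_pow] at ha
    rw [← ha] at this
    exact (Ideal.mul_unit_mem_iff_mem _ (hfu.pow n)).mp
      ((Ideal.unit_mul_mem_iff_mem _ (hfu.pow k)).mp ((Ideal.unit_mul_mem_iff_mem _ (hfu.pow N)).mp this))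
  let I : X.IdealSheafData :=
    { ideal := fun U ↦ Mero.denomIdeal L s U.1
      map_ideal_basicOpen := hmap }
  refine ⟨I, fun U ↦ rfl, ?_⟩
  rw [Set.eq_empty_iff_forall_notMem]
  intro z hz
  obtain ⟨V, hzV, i, m, b, h⟩ := s.2 ⟨z, trivial⟩
  obtain ⟨_, ⟨W, hW, rfl⟩, hzW, hWsub⟩ := X.isBasis_affineOpens.exists_subset_of_mem_open
    (show z ∈ (V : Set X) ∩ interior (I.support : Set X) from ⟨hzV, hz⟩) (V.isOpen.inter isOpen_interior)
  have hWV : W ≤ V := fun y hy ↦ (hWsub hy).1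
  let b' : Γ(X, W) := X.presheaf.map (homOfLE hWV).op b.1
  have hb : b' ∈ Mero.denomIdeal L s W := by
    refine ⟨L.presheaf.map (homOfLE hWV).op m, fun y ↦ ?_⟩
    rw [show s.1 ⟨y.1, trivial⟩ = _ from h ⟨y.1, hWV y.2⟩, LocalizedModule.smul'_mk, LocalizedModule.mkLinearMap_apply,
      LocalizedModule.mk_eq]
    refine ⟨1, ?_⟩
    simp only [one_smul, Submonoid.smul_def, b', TopCat.Presheaf.germ_res_apply]
  have hall : ∀ (y : X) (hy : y ∈ W), ¬ IsUnit (X.presheaf.germ W y hy b') := by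
    intro y hy hu
    have h1 : y ∈ I.support := interior_subset (hWsub hy).2
    rw [Scheme.IdealSheafData.mem_support_iff_of_mem (U := ⟨W, hW⟩) hy] at h1
    exact (X.mem_zeroLocus_iff _ _).mp h1 b' hb ((X.mem_basicOpen b' y hy).mpr hu)
  have hnil : IsNilpotent b' := by
    rw [nilpotent_iff_mem_prime]
    intro J hJ
    have hmem := fromSpec_mem hW ⟨J, hJ⟩
    have hpr : pr hW _ hmem = J := congrArg PrimeSpectrum.asIdeal (primeIdealOf_fromSpec hW ⟨J, hJ⟩)
    rw [← hpr]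
    by_contra hb'
    exact hall _ hmem ((isUnit_germ_iff hW b').mpr hb')
  obtain ⟨k, hk⟩ := hnil
  have hbz : X.presheaf.germ W z hzW b' ∈ (X.presheaf.stalk z)⁰ := by
    rw [TopCat.Presheaf.germ_res_apply]
    exact b.2 ⟨z, hzV⟩
  have h0 := pow_mem hbz k
  rw [← map_pow, hk, map_zero] at h0
  exact zero_notMem_nonZeroDivisors h0

end Groth.Agent.MeroBasic
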