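import Groth.Agent.MeroBasic.DivBasic
import Groth.Agent.DepthLib.Ext

/-! Effectivity of divisors is checked at the points of depth one. -/

namespace Groth.Agent.MeroBasic

open AlgebraicGeometry CategoryTheory TopologicalSpace
open scoped nonZeroDivisors

universe u

variable {X : Scheme.{u}}

lemma regStalk_eq_of_noetherian [IsLocallyNoetherian X] (x : X) :
    Mero.regStalk X x = (X.presheaf.stalk x)⁰ := by
  obtain ⟨_, ⟨U, hU, rfl⟩, hx, -⟩ :=
    X.isBasis_affineOpens.exists_subset_of_mem_open (Set.mem_univ x) isOpen_univ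
  obtain ⟨S, h1, h2⟩ := noetherian_good (X := X) hU
  exact regStalk_eq hU S h1 h2 hx

lemma mem_range_of_isEffectiveAt {D : Mero.Divisor X} {x : X} {G : (Mero.KStalk X x)ˣ}
    (hG : D.1 x = QuotientGroup.mk G) (h : Mero.IsEffectiveAt D x) :
    (G : Mero.KStalk X x) ∈ (algebraMap (X.presheaf.stalk x) (Mero.KStalk X x)).range := by
  obtain ⟨a, ha⟩ := h
  obtain ⟨v, hv⟩ := QuotientGroup.eq.mp (ha.symm.trans hG)
  refine ⟨a * v, ?_⟩
  rw [eq_inv_mul_iff_mul_eq] at hv
  rw [← hv, map_mul]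
  rfl

lemma isEffectiveAt_of_mem_range [IsLocallyNoetherian X] {D : Mero.Divisor X} {x : X} {G : (Mero.KStalk X x)ˣ}
    (hG : D.1 x = QuotientGroup.mk G)
    (h : (G : Mero.KStalk X x) ∈ (algebraMap (X.presheaf.stalk x) (Mero.KStalk X x)).range) :
    Mero.IsEffectiveAt D x := by
  obtain ⟨c, hc⟩ := h
  have hreg : c ∈ Mero.regStalk X x := by
    rw [regStalk_eq_of_noetherian, mem_nonZeroDivisors_iff_left]
    intro e he
    refine Mero.algebraMap_KStalk_injective x ?_
    rw [map_zero]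
    refine G.isUnit.mul_right_eq_zero.mp ?_
    rw [← hc, ← map_mul, he, map_zero]
  refine ⟨⟨c, hreg⟩, hG.trans (congrArg QuotientGroup.mk (Units.ext ?_))⟩
  exact hc.symm

lemma isEffectiveAt_of_eq_one [IsLocallyNoetherian X] {D : Mero.Divisor X} {x : X} (h : D.1 x = 1) :
    Mero.IsEffectiveAt D x :=
  isEffectiveAt_of_mem_range (G := 1) h ⟨1, by rw [map_one]; rfl⟩

lemma eq_one_of_isEffectiveAt {D : Mero.Divisor X} {x : X} (h : Mero.IsEffectiveAt D x)
    (h' : Mero.IsEffectiveAt D⁻¹ x) : D.1 x = 1 := by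
  obtain ⟨G, hG⟩ := QuotientGroup.mk_surjective (D.1 x)
  obtain ⟨c, hc⟩ := mem_range_of_isEffectiveAt hG.symm h
  obtain ⟨c', hc'⟩ := mem_range_of_isEffectiveAt (G := G⁻¹)
    (show (D.1 x)⁻¹ = _ by rw [← hG, QuotientGroup.mk_inv]) h'
  have hcc : c * c' = 1 := Mero.algebraMap_KStalk_injective x (by
    rw [map_mul, hc, hc', Units.mul_inv, map_one])
  rw [← hG, QuotientGroup.eq_one_iff]
  exact ⟨(IsUnit.of_mul_eq_one c' hcc).unit, Units.ext hc⟩

theorem exists_depth_one_not_isEffectiveAt [IsLocallyNoetherian X] (D : Mero.Divisor X) {x : X}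
    (hx : ¬ Mero.IsEffectiveAt D x) :
    ∃ y : X, y ⤳ x ∧ ¬ Mero.IsEffectiveAt D y ∧ LocCoh.depth (X.presheaf.stalk y) (X.presheaf.stalk y) = 1 := by
  obtain ⟨U, hxU, g, hg⟩ := D.2 x
  obtain ⟨V, hxV, i, a₀, b₀, hab⟩ := exists_fraction (g : Γ(Mero.kmod X, U)) ⟨x, hxU⟩
  obtain ⟨_, ⟨W, hW, rfl⟩, hxW, hWV⟩ := X.isBasis_affineOpens.exists_subset_of_mem_open hxV V.isOpen
  replace hWV : W ≤ V := hWV
  have := IsLocallyNoetherian.component_noetherian (X := X) ⟨W, hW⟩
  let a : Γ(X, W) := X.presheaf.map (homOfLE hWV).op a₀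
  let b : Γ(X, W) := X.presheaf.map (homOfLE hWV).op b₀.1
  have hb : ∀ (y : X) (hy : y ∈ W), X.presheaf.germ W y hy b ∈ (X.presheaf.stalk y)⁰ := fun y hy ↦
    Mero.regSub_res _ b₀.2 ⟨y, hy⟩
  have heff : ∀ (y : X) (hy : y ∈ W), Mero.IsEffectiveAt D y ↔
      ∃ c, X.presheaf.germ W y hy b * c = X.presheaf.germ W y hy a := by
    intro y hy
    let G : (Mero.KStalk X y)ˣ := Units.map (Mero.evalK X U ⟨y, i (hWV hy)⟩).toMonoidHom g
    have hG : D.1 y = QuotientGroup.mk G := hg ⟨y, i (hWV hy)⟩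
    have hGab : (G : Mero.KStalk X y) * algebraMap _ _ (X.presheaf.germ W y hy b) =
        algebraMap _ _ (X.presheaf.germ W y hy a) := by
      rw [show (G : Mero.KStalk X y) = _ from hab ⟨y, hWV hy⟩, algebraMap_kstalk_eq_mk, algebraMap_kstalk_eq_mk]
      refine LocalizedModule.mk_mul_mk.trans (LocalizedModule.mk_eq.mpr ⟨1, ?_⟩)
      simp only [one_smul, Submonoid.smul_def, smul_eq_mul, OneMemClass.coe_one, mul_one, a, b,
        TopCat.Presheaf.germ_res_apply]
      exact mul_comm _ _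
    constructor
    · intro h
      obtain ⟨c, hc⟩ := mem_range_of_isEffectiveAt hG h
      refine ⟨c, Mero.algebraMap_KStalk_injective y ?_⟩
      rw [map_mul, hc, mul_comm, hGab]
    · rintro ⟨c, hc⟩
      refine isEffectiveAt_of_mem_range hG ⟨c, ?_⟩
      have hu : IsUnit (algebraMap (X.presheaf.stalk y) (Mero.KStalk X y) (X.presheaf.germ W y hy b)) :=
        IsLocalization.map_units (Mero.KStalk X y) (⟨_, by rw [regStalk_eq_of_noetherian]; exact hb y hy⟩ :
          Mero.regStalk X y)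
      refine hu.mul_left_injective ?_
      dsimp only
      rw [hGab, ← hc, map_mul, mul_comm]
  let I : Ideal Γ(X, W) := (Ideal.span {b}).colon {a}
  have hI : I ≤ pr hW x hxW := fun r hr ↦ by
    by_contra hr'
    obtain ⟨e, he⟩ := Ideal.mem_span_singleton'.mp (Submodule.mem_colon_singleton.mp hr)
    obtain ⟨v, hv⟩ := (isUnit_germ_iff hW (hx := hxW) r).mpr hr'
    refine hx ((heff x hxW).mpr ⟨X.presheaf.germ W x hxW e * ↑v⁻¹, ?_⟩)
    rw [← mul_assoc, ← map_mul, mul_comm b e, he, smul_eq_mul, map_mul, ← hv, mul_comm (v : X.presheaf.stalk x),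
      Units.mul_inv_cancel_right]
  obtain ⟨q, hq, hqx⟩ := Ideal.exists_minimalPrimes_le hI
  let qq : PrimeSpectrum Γ(X, W) := ⟨q, hq.isPrime⟩
  have hmem := fromSpec_mem hW qq
  have hpr : pr hW _ hmem = q := congrArg PrimeSpectrum.asIdeal (primeIdealOf_fromSpec hW qq)
  let y := hW.fromSpec qq
  have hneff : ¬ Mero.IsEffectiveAt D y := by
    intro h
    obtain ⟨c, hc⟩ := (heff y hmem).mp h
    obtain ⟨e, t, ht, het⟩ := exists_germ_mul_eq hW (hx := hmem) c
    have h0 : X.presheaf.germ W y hmem (b * e - t * a) = 0 := by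
      rw [map_sub, map_mul, map_mul, ← het, ← hc]; ring
    obtain ⟨u, hu, hu0⟩ := (germ_eq_zero_iff hW _).mp h0
    have hmemI : u * t ∈ I := Submodule.mem_colon_singleton.mpr (Ideal.mem_span_singleton'.mpr ⟨u * e, by
      rw [mul_sub, sub_eq_zero] at hu0
      rw [smul_eq_mul, mul_assoc u t a, ← hu0]; ring⟩)
    exact ((hW.primeIdealOf ⟨y, hmem⟩).isPrime.mem_or_mem (hpr.ge (hq.le hmemI))).elim hu ht
  refine ⟨y, specializes_of_le hW qq hqx, hneff, ?_⟩
  have hbm : X.presheaf.germ W y hmem b ∈ IsLocalRing.maximalIdeal (X.presheaf.stalk y) := fun hu ↦ by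
    obtain ⟨v, hv⟩ := hu
    exact hneff ((heff y hmem).mpr ⟨↑v⁻¹ * X.presheaf.germ W y hmem a, by rw [← hv, Units.mul_inv_cancel_left]⟩)
  have hreg : IsSMulRegular (X.presheaf.stalk y) (X.presheaf.germ W y hmem b) :=
    (isRegular_iff_mem_nonZeroDivisors.mpr (hb y hmem)).left
  rw [LocCoh.depth, ← Groth.Agent.DepthLib.idealDepth_quotSMulTop_add_one hbm hreg]
  suffices h0 : LocCoh.depth (X.presheaf.stalk y) (QuotSMulTop (X.presheaf.germ W y hmem b) (X.presheaf.stalk y)) = 0 by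
    rw [LocCoh.depth] at h0
    rw [h0, zero_add]
  rw [Groth.Agent.DepthLib.depth_eq_zero_iff]
  refine ⟨inferInstance, Submodule.Quotient.mk (X.presheaf.germ W y hmem a), le_antisymm ?_ ?_⟩
  · rw [Ideal.radical_eq_sInf]
    refine le_sInf fun Q ⟨hQ, hQp⟩ ↦ ?_
    intro z hz
    obtain ⟨r, w, hw, hrw⟩ := exists_germ_mul_eq hW (hx := hmem) z
    let Q' : Ideal Γ(X, W) := Q.comap (X.presheaf.germ W y hmem).hom
    have hQ' : Q'.IsPrime := Ideal.IsPrime.comap _
    have hle : Q' ≤ q := by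
      intro e he
      by_contra heq
      exact hQp.ne_top (Q.eq_top_of_isUnit_mem he ((isUnit_germ_iff hW e).mpr (hpr.symm ▸ heq)))
    have hIQ : I ≤ Q' := fun e he ↦ hQ (by
      obtain ⟨e', he'⟩ := Ideal.mem_span_singleton'.mp (Submodule.mem_colon_singleton.mp he)
      rw [Submodule.mem_colon_singleton, Submodule.mem_bot, ← Submodule.Quotient.mk_smul,
        Submodule.Quotient.mk_eq_zero]
      have : X.presheaf.germ W y hmem e • X.presheaf.germ W y hmem a =
          X.presheaf.germ W y hmem b • X.presheaf.germ W y hmem e' := by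
        rw [smul_eq_mul, smul_eq_mul, ← map_mul, ← map_mul, mul_comm b, he', smul_eq_mul]
      rw [this]
      exact Submodule.smul_mem_pointwise_smul _ _ _ trivial)
    have hQq : q ≤ Q' := hq.2 ⟨hQ', hIQ⟩ hle
    have hr : X.presheaf.germ W y hmem r ∈ Q := hQq (hpr ▸ by
      by_contra hr
      have := (isUnit_germ_iff hW r).mpr hr
      rw [← hrw, IsUnit.mul_iff] at this
      exact hz this.1)
    rw [← hrw] at hr
    exact (hQp.mem_or_mem hr).resolve_right fun h ↦ hQp.ne_top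
      (Q.eq_top_of_isUnit_mem h ((isUnit_germ_iff hW w).mpr hw))
  · refine IsLocalRing.le_maximalIdeal fun htop ↦ hneff ((heff y hmem).mpr ?_)
    rw [Ideal.radical_eq_top, Ideal.eq_top_iff_one, Submodule.mem_colon_singleton, Submodule.mem_bot, one_smul,
      Submodule.Quotient.mk_eq_zero, Submodule.mem_smul_pointwise_iff_exists] at htop
    obtain ⟨c, -, hc⟩ := htop
    exact ⟨c, hc⟩

end Groth.Agent.MeroBasic
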