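import Groth.Agent.MeroBasic.KSections
import Groth.Agent.InvBasic.OfBasis
import Groth.Prelude.Def_MeroDiv

/-! Divisors and the fractional ideals `O_X(D)`. -/

namespace Groth.Agent.MeroBasic

open AlgebraicGeometry CategoryTheory TopologicalSpace
open scoped nonZeroDivisors

universe u

variable {X : Scheme.{u}}

lemma algebraMap_kstalk_eq_mk (x : X) (c : X.presheaf.stalk x) :
    algebraMap (X.presheaf.stalk x) (Mero.KStalk X x) c = LocalizedModule.mk c 1 := rfl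

/-- A meromorphic function with values in the local rings is a function. -/
lemma exists_toK_eq {U : X.Opens} (h : Γ(Mero.kmod X, U))
    (hh : ∀ y : U, h.1 y ∈ (algebraMap (X.presheaf.stalk y.1) (Mero.KStalk X y.1)).range) :
    ∃ r : Γ(X, U), Mero.toK X U r = h := by
  have hloc : ∀ y : U, ∃ (V : X.Opens) (_ : y.1 ∈ V) (hVU : V ≤ U) (r : Γ(X, V)),
      Mero.toK X V r = (Mero.kmod X).presheaf.map (homOfLE hVU).op h := by
    intro y
    obtain ⟨V, hV, i, a, b, hab⟩ := exists_fraction h y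
    obtain ⟨c, hc⟩ := hh y
    obtain ⟨W, hW, c', rfl⟩ := X.presheaf.exists_germ_eq c
    have h1 := hab ⟨y.1, hV⟩
    rw [← hc, algebraMap_kstalk_eq_mk, LocalizedModule.mk_eq] at h1
    obtain ⟨w, hw⟩ := h1
    simp only [one_smul, Submonoid.smul_def, smul_eq_mul, OneMemClass.coe_one, one_mul] at hw
    have h2 : X.presheaf.germ V y.1 hV b.1 * X.presheaf.germ W y.1 hW c' = X.presheaf.germ V y.1 hV a :=
      (isRegular_iff_mem_nonZeroDivisors.mpr (Mero.regStalk_le_nonZeroDivisors _ w.2)).left hw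
    have h3 : X.presheaf.germ (V ⊓ W) y.1 ⟨hV, hW⟩
        (X.presheaf.map (homOfLE inf_le_left).op b.1 * X.presheaf.map (homOfLE inf_le_right).op c') =
        X.presheaf.germ (V ⊓ W) y.1 ⟨hV, hW⟩ (X.presheaf.map (homOfLE inf_le_left).op a) := by
      rw [map_mul, TopCat.Presheaf.germ_res_apply, TopCat.Presheaf.germ_res_apply,
        TopCat.Presheaf.germ_res_apply]
      exact h2
    obtain ⟨Z, hyZ, j, k, e⟩ := X.presheaf.germ_eq y.1 _ _ _ _ h3
    refine ⟨Z, hyZ, j.le.trans (inf_le_left.trans i),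
      X.presheaf.map j.op (X.presheaf.map (homOfLE inf_le_right).op c'), kmod_ext fun z ↦ ?_⟩
    have e' := congrArg (X.presheaf.germ Z z.1 z.2) e
    simp only [map_mul, TopCat.Presheaf.germ_res_apply] at e'
    refine Eq.trans ?_ (hab ⟨z.1, (j.le z.2).1⟩).symm
    rw [Mero.toK_apply, LocalizedModule.mk_eq]
    refine ⟨1, ?_⟩
    simp only [one_smul, Submonoid.smul_def, smul_eq_mul, OneMemClass.coe_one, one_mul,
      TopCat.Presheaf.germ_res_apply]
    exact e'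
  choose V hyV hVU r hr using hloc
  have hcover : U ≤ iSup V := fun x hx ↦ Opens.mem_iSup.mpr ⟨⟨x, hx⟩, hyV ⟨x, hx⟩⟩
  obtain ⟨R, hR, -⟩ := X.sheaf.existsUnique_gluing' V U (fun y ↦ homOfLE (hVU y)) hcover r
    (fun y y' ↦ toK_injective _ (kmod_ext fun z ↦
      ((congrArg (LocalizedModule.mk · 1) (TopCat.Presheaf.germ_res_apply X.presheaf _ z.1 z.2 (r y))).trans
        (congrFun (congrArg Subtype.val (hr y)) ⟨z.1, z.2.1⟩)).trans
      ((congrArg (LocalizedModule.mk · 1) (TopCat.Presheaf.germ_res_apply X.presheaf _ z.1 z.2 (r y'))).trans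
        (congrFun (congrArg Subtype.val (hr y')) ⟨z.1, z.2.2⟩)).symm))
  refine ⟨R, kmod_ext fun z ↦ Eq.trans ?_ (congrFun (congrArg Subtype.val (hr z)) ⟨z.1, hyV z⟩)⟩
  rw [Mero.toK_apply, Mero.toK_apply, ← hR z]
  exact congrArg (LocalizedModule.mk · 1) (TopCat.Presheaf.germ_res_apply X.presheaf _ z.1 (hyV z) R).symm

/-- With a representative, the condition cutting out `O_X(D)` is checked on that representative. -/
lemma divCond_iff {D : Mero.Divisor X} {x : X} {g : (Mero.KStalk X x)ˣ} (hg : D.1 x = QuotientGroup.mk g)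
    (t : Mero.KStalk X x) :
    Mero.DivCond D x t ↔ t * g ∈ (algebraMap (X.presheaf.stalk x) (Mero.KStalk X x)).range := by
  refine ⟨fun h ↦ h g hg, fun h g' hg' ↦ ?_⟩
  obtain ⟨v, hv⟩ := QuotientGroup.eq.mp (hg.symm.trans hg')
  have : (g' : Mero.KStalk X x) = g * algebraMap (X.presheaf.stalk x) (Mero.KStalk X x) v := by
    rw [eq_inv_mul_iff_mul_eq] at hv
    rw [← hv]
    rfl
  rw [this, ← mul_assoc]
  exact mul_mem h ⟨v, rfl⟩

/-- A section of `O_X(D)` as a meromorphic function. -/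
abbrev toKmod {D : Mero.Divisor X} {U : X.Opens} (t : Γ(Mero.divMod D, U)) : Γ(Mero.kmod X, U) :=
  ⟨t.1, t.2.1⟩

/-- The section `g⁻¹` of `O_X(D)` where `g` is a local equation of `D`. -/
noncomputable def invSection {D : Mero.Divisor X} {U : X.Opens} (g : (Γ(Mero.kmod X, U))ˣ)
    (hg : ∀ y : U, D.1 y.1 = Mero.germOf g y) : Γ(Mero.divMod D, U) :=
  ⟨(↑g⁻¹ : Γ(Mero.kmod X, U)).1, (↑g⁻¹ : Γ(Mero.kmod X, U)).2, fun y ↦ (divCond_iff (hg y) _).mpr ⟨1, by
    rw [map_one]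
    exact (congrFun (congrArg Subtype.val g.inv_mul) y).symm⟩⟩

lemma isBasis_invSection {D : Mero.Divisor X} {U : X.Opens} (g : (Γ(Mero.kmod X, U))ˣ)
    (hg : ∀ y : U, D.1 y.1 = Mero.germOf g y) : InvBasic.IsBasis (Mero.divMod D) (invSection g hg) := by
  intro W hW
  have key : ∀ (r : Γ(X, W)) (z : W),
      (r • ((Mero.divMod D).presheaf.map (homOfLE hW).op (invSection g hg) : Γ(Mero.divMod D, W))).1 z =
        (Mero.toK X W r).1 z * (↑g⁻¹ : Γ(Mero.kmod X, U)).1 ⟨z.1, hW z.2⟩ :=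
    fun r z ↦ Algebra.smul_def (A := Mero.KStalk X z.1) _ _
  constructor
  · intro a b hab
    refine toK_injective W (kmod_ext fun z ↦ ?_)
    have h1 := congrFun (congrArg Subtype.val hab) z
    rw [key, key] at h1
    exact (IsUnit.of_mul_eq_one ((g : Γ(Mero.kmod X, U)).1 ⟨z.1, hW z.2⟩)
      (congrFun (congrArg Subtype.val g.inv_mul) ⟨z.1, hW z.2⟩)).mul_right_cancel h1
  · intro t
    let tg : Γ(Mero.kmod X, W) :=
      toKmod t * (Mero.kmod X).presheaf.map (homOfLE hW).op (g : Γ(Mero.kmod X, U))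
    obtain ⟨r, hr⟩ := exists_toK_eq tg fun z ↦ (divCond_iff (hg ⟨z.1, hW z.2⟩) _).mp (t.2.2 z)
    refine ⟨r, Subtype.ext (funext fun z ↦ ?_)⟩
    refine (key r z).trans ?_
    rw [hr]
    change t.1 z * (g : Γ(Mero.kmod X, U)).1 ⟨z.1, hW z.2⟩ * _ = t.1 z
    rw [mul_assoc]
    exact (congrArg (t.1 z * ·) (congrFun (congrArg Subtype.val g.mul_inv) ⟨z.1, hW z.2⟩)).trans (mul_one _)

lemma isInvertible_divMod (D : Mero.Divisor X) : PicF.IsInvertible (Mero.divMod D) := by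
  refine InvBasic.isInvertible_of_isBasis fun x ↦ ?_
  obtain ⟨U, hx, g, hg⟩ := D.2 x
  exact ⟨U, hx, invSection g hg, isBasis_invSection g hg⟩

/-- Multiplication by a global meromorphic function. -/
noncomputable def mulHom {D D' : Mero.Divisor X} (f : Γ(Mero.kmod X, ⊤))
    (hf : ∀ (x : X) (t : Mero.KStalk X x), Mero.DivCond D x t → Mero.DivCond D' x (t * f.1 ⟨x, trivial⟩)) :
    Mero.divMod D ⟶ Mero.divMod D' :=
  ⟨PresheafOfModules.homMk (M₁ := (Mero.divMod D).val) (M₂ := (Mero.divMod D').val)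
    { app := fun U ↦ AddCommGrpCat.ofHom
        { toFun := fun (t : Γ(Mero.divMod D, U.unop)) ↦
            (⟨fun y ↦ t.1 y * f.1 ⟨y.1, trivial⟩,
              (toKmod t *
                (Mero.kmod X).presheaf.map (homOfLE le_top).op f).2,
              fun y ↦ hf y.1 _ (t.2.2 y)⟩ : Γ(Mero.divMod D', U.unop))
          map_zero' := Subtype.ext (funext fun y ↦ zero_mul _)
          map_add' := fun t t' ↦ Subtype.ext (funext fun y ↦ add_mul _ _ _) }
      naturality := by intros; rfl }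
    (fun U r t ↦ Subtype.ext (funext fun y ↦ smul_mul_assoc _ _ _))⟩

lemma mulHom_apply {D D' : Mero.Divisor X} (f : Γ(Mero.kmod X, ⊤)) (hf) {U : X.Opens}
    (t : Γ(Mero.divMod D, U)) (y : U) :
    ((mulHom (D := D) (D' := D') f hf).app U t).1 y = t.1 y * f.1 ⟨y.1, trivial⟩ := rfl

lemma nonempty_iso_of_eq_mul_div {D D' : Mero.Divisor X} (f : (Γ(Mero.kmod X, ⊤))ˣ)
    (h : ∀ x : X, D.1 x = D'.1 x * Mero.germOf f ⟨x, trivial⟩) :
    Nonempty (Mero.divMod D ≅ Mero.divMod D') := by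
  let F (x : X) : (Mero.KStalk X x)ˣ := Units.map (Mero.evalK X ⊤ ⟨x, trivial⟩).toMonoidHom f
  have hcond : ∀ (x : X) (t : Mero.KStalk X x),
      Mero.DivCond D x t ↔ Mero.DivCond D' x (t * F x) := by
    intro x t
    obtain ⟨g', hg'⟩ := QuotientGroup.mk_surjective (D'.1 x)
    have hg : D.1 x = QuotientGroup.mk (g' * F x) := by
      rw [h x, ← hg', QuotientGroup.mk_mul]
    rw [divCond_iff hg, divCond_iff hg'.symm, Units.val_mul]
    constructor <;> intro e <;> convert e using 1 <;> ring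
  have h1 : ∀ (x : X) (t : Mero.KStalk X x), Mero.DivCond D' x t →
      Mero.DivCond D x (t * (↑f⁻¹ : Γ(Mero.kmod X, ⊤)).1 ⟨x, trivial⟩) := fun x t ht ↦ by
    rw [hcond x, mul_assoc]
    convert ht using 1
    refine (congrArg (t * ·) ?_).trans (mul_one t)
    exact congrFun (congrArg Subtype.val f.inv_mul) ⟨x, trivial⟩
  refine ⟨{ hom := mulHom (f : Γ(Mero.kmod X, ⊤)) fun x t ht ↦ (hcond x t).mp ht
            inv := mulHom (↑f⁻¹ : Γ(Mero.kmod X, ⊤)) h1
            hom_inv_id := ?_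
            inv_hom_id := ?_ }⟩
  · refine Scheme.Modules.hom_ext _ _ fun U ↦ ?_
    ext t
    refine Subtype.ext (funext fun y ↦ ?_)
    change t.1 y * _ * _ = t.1 y
    rw [mul_assoc]
    exact (congrArg (t.1 y * ·) (congrFun (congrArg Subtype.val f.mul_inv) ⟨y.1, trivial⟩)).trans (mul_one _)
  · refine Scheme.Modules.hom_ext _ _ fun U ↦ ?_
    ext t
    refine Subtype.ext (funext fun y ↦ ?_)
    change t.1 y * _ * _ = t.1 y
    rw [mul_assoc]
    exact (congrArg (t.1 y * ·) (congrFun (congrArg Subtype.val f.inv_mul) ⟨y.1, trivial⟩)).trans (mul_one _)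

lemma eq_of_divCond_iff {D D' : Mero.Divisor X}
    (h : ∀ (U : X.Opens) (t : Γ(Mero.kmod X, U)),
      (∀ x : U, Mero.DivCond D x.1 (t.1 x)) ↔ ∀ x : U, Mero.DivCond D' x.1 (t.1 x)) : D = D' := by
  refine Subtype.ext (funext fun x ↦ ?_)
  obtain ⟨U, hxU, g, hg⟩ := D.2 x
  obtain ⟨V, hxV, g', hg'⟩ := D'.2 x
  have h1 := (h U (↑g⁻¹ : Γ(Mero.kmod X, U))).mp (invSection g hg).2.2 ⟨x, hxU⟩ _ (hg' ⟨x, hxV⟩)
  have h2 := (h V (↑g'⁻¹ : Γ(Mero.kmod X, V))).mpr (invSection g' hg').2.2 ⟨x, hxV⟩ _ (hg ⟨x, hxU⟩)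
  obtain ⟨c, hc⟩ := h1
  obtain ⟨c', hc'⟩ := h2
  set G : (Mero.KStalk X x)ˣ := Units.map (Mero.evalK X U ⟨x, hxU⟩).toMonoidHom g
  set G' : (Mero.KStalk X x)ˣ := Units.map (Mero.evalK X V ⟨x, hxV⟩).toMonoidHom g'
  change algebraMap (X.presheaf.stalk x) (Mero.KStalk X x) c = ↑G⁻¹ * ↑G' at hc
  change algebraMap (X.presheaf.stalk x) (Mero.KStalk X x) c' = ↑G'⁻¹ * ↑G at hc'
  have hcc : c * c' = 1 := by
    refine Mero.algebraMap_KStalk_injective x ?_
    rw [map_mul, hc, hc', map_one, ← Units.val_mul, ← Units.val_mul, ← Units.val_mul,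
      show G⁻¹ * G' * (G'⁻¹ * G) = 1 by group, Units.val_one]
  rw [hg ⟨x, hxU⟩, hg' ⟨x, hxV⟩]
  refine QuotientGroup.eq.mpr ⟨(IsUnit.of_mul_eq_one c' hcc).unit, Units.ext ?_⟩
  exact hc

end Groth.Agent.MeroBasic
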