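import Groth.Agent.MeroBasic.DivBasic
import Groth.Agent.ProjTwist.LiftHom
import Groth.Prelude.Def_SecTwist

/-! `O(D) ⊗ O(E) ≅ O(DE)` by multiplication. -/

namespace Groth.Agent.MeroBasic

open AlgebraicGeometry CategoryTheory TopologicalSpace MonoidalCategory Opposite

universe u

variable {X : Scheme.{u}} (D E : Mero.Divisor X)

lemma divCond_mul {x : X} {t t' : Mero.KStalk X x} (h : Mero.DivCond D x t) (h' : Mero.DivCond E x t') :
    Mero.DivCond (D * E) x (t * t') := by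
  obtain ⟨g, hg⟩ := QuotientGroup.mk_surjective (D.1 x)
  obtain ⟨g', hg'⟩ := QuotientGroup.mk_surjective (E.1 x)
  rw [divCond_iff (g := g * g') (show D.1 x * E.1 x = _ by rw [← hg, ← hg', QuotientGroup.mk_mul]),
    Units.val_mul, mul_mul_mul_comm]
  exact mul_mem (h g hg.symm) (h' g' hg'.symm)

/-- The product of a section of `O(D)` and a section of `O(E)`. -/
noncomputable def mulSection {U : X.Opens} (t : Γ(Mero.divMod D, U)) (t' : Γ(Mero.divMod E, U)) :
    Γ(Mero.divMod (D * E), U) :=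
  ⟨(toKmod t * toKmod t').1, (toKmod t * toKmod t').2, fun y ↦ divCond_mul D E (t.2.2 y) (t'.2.2 y)⟩

/-- Multiplication as a map of presheaves of modules. -/
noncomputable def mulPre : (CohB1.tensorPre (Mero.divMod D) (Mero.divMod E) : CohB1.PMod X) ⟶
    CohB1.toPMod (Mero.divMod (D * E)) :=
  ProjTwist.liftHom (M := CohB1.toPMod (Mero.divMod D)) (N := CohB1.toPMod (Mero.divMod E))
    (fun U t t' ↦ mulSection D E (U := U.unop) t t')
    (fun U q q' p ↦ Subtype.ext (funext fun y ↦ add_mul _ _ _))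
    (fun U c q p ↦ Subtype.ext (funext fun y ↦ smul_mul_assoc _ _ _))
    (fun U q p p' ↦ Subtype.ext (funext fun y ↦ mul_add _ _ _))
    (fun U c q p ↦ Subtype.ext (funext fun y ↦ mul_smul_comm _ _ _))
    (fun f q p ↦ rfl)

/-- Multiplication `O(D) ⊗ O(E) ⟶ O(DE)`. -/
noncomputable def mulTensor : CohB1.tensorMod (Mero.divMod D) (Mero.divMod E) ⟶ Mero.divMod (D * E) :=
  ((PresheafOfModules.sheafificationAdjunction (R := X.ringCatSheaf) (𝟙 X.ringCatSheaf.obj)).homEquiv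
    (show X.PresheafOfModules from CohB1.tensorPre (Mero.divMod D) (Mero.divMod E)) (Mero.divMod (D * E))).symm
    (mulPre D E)

theorem mulTensor_tmul (U : X.Opens) (t : Γ(Mero.divMod D, U)) (t' : Γ(Mero.divMod E, U)) :
    (mulTensor D E).app U (SecTwist.tmul (Mero.divMod D) (Mero.divMod E) U t t') = mulSection D E t t' := by
  have h := ((PresheafOfModules.sheafificationAdjunction (R := X.ringCatSheaf) (𝟙 X.ringCatSheaf.obj)).homEquiv
    (show X.PresheafOfModules from CohB1.tensorPre (Mero.divMod D) (Mero.divMod E))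
    (Mero.divMod (D * E))).apply_symm_apply (mulPre D E)
  rw [Adjunction.homEquiv_unit] at h
  exact DFunLike.congr_fun (congrArg (fun φ ↦ (φ.app (op U)).hom) h) _

theorem isIso_mulTensor : IsIso (mulTensor D E) := by
  let J := Opens.grothendieckTopology X
  let φ := mulPre D E
  let f := (PresheafOfModules.toPresheaf _).map
    (show (show X.PresheafOfModules from CohB1.tensorPre (Mero.divMod D) (Mero.divMod E)) ⟶
      (Mero.divMod (D * E)).val from φ)
  have hchart : ∀ (U : X.Opens) (x : X), x ∈ U → ∃ (V : X.Opens) (_ : V ≤ U), x ∈ V ∧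
      ∃ p₀ : (CohB1.toPMod (Mero.divMod E)).obj (op V),
        Function.Bijective (fun q : (CohB1.toPMod (Mero.divMod D)).obj (op V) ↦
          φ.app (op V) (q ⊗ₜ[X.sheaf.obj.obj (op V)] p₀)) ∧
        ∀ p : (CohB1.toPMod (Mero.divMod E)).obj (op V), ∃ c : X.sheaf.obj.obj (op V), c • p₀ = p := by
    intro U x hx
    obtain ⟨U₁, h₁, g, hg⟩ := D.2 x
    obtain ⟨U₂, h₂, g', hg'⟩ := E.2 x
    let V := U ⊓ U₁ ⊓ U₂
    refine ⟨V, inf_le_left.trans inf_le_left, ⟨⟨hx, h₁⟩, h₂⟩,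
      (Mero.divMod E).presheaf.map (homOfLE (inf_le_right : V ≤ U₂)).op (invSection g' hg'),
      ⟨fun q q' hqq ↦ ?_, fun t ↦ ?_⟩, fun p ↦ (isBasis_invSection g' hg' V inf_le_right).2 p⟩
    · refine Subtype.ext (funext fun z ↦ ?_)
      have h := congrFun (congrArg Subtype.val hqq) z
      exact (IsUnit.of_mul_eq_one ((g' : Γ(Mero.kmod X, U₂)).1 ⟨z.1, z.2.2⟩)
        (congrFun (congrArg Subtype.val g'.inv_mul) ⟨z.1, z.2.2⟩)).mul_right_cancel h
    · let q : Γ(Mero.kmod X, V) := toKmod (D := D * E) (U := V) t *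
        (Mero.kmod X).presheaf.map (homOfLE (inf_le_right : V ≤ U₂)).op (g' : Γ(Mero.kmod X, U₂))
      refine ⟨(⟨q.1, q.2, fun z ↦ ?_⟩ : Γ(Mero.divMod D, V)), Subtype.ext (funext fun z ↦ ?_)⟩
      · let G : (Mero.KStalk X z.1)ˣ := Units.map (Mero.evalK X U₁ ⟨z.1, z.2.1.2⟩).toMonoidHom g
        let G' : (Mero.KStalk X z.1)ˣ := Units.map (Mero.evalK X U₂ ⟨z.1, z.2.2⟩).toMonoidHom g'
        rw [divCond_iff (g := G) (hg ⟨z.1, z.2.1.2⟩)]
        have := (divCond_iff (D := D * E) (g := G * G')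
          (show D.1 z.1 * E.1 z.1 = _ by rw [hg ⟨z.1, z.2.1.2⟩, hg' ⟨z.1, z.2.2⟩]; rfl) _).mp (t.2.2 z)
        rw [Units.val_mul] at this
        change t.1 z * (G' : Mero.KStalk X z.1) * G ∈ _
        rw [mul_assoc, mul_comm (G' : Mero.KStalk X z.1)]
        exact this
      · change t.1 z * (g' : Γ(Mero.kmod X, U₂)).1 ⟨z.1, z.2.2⟩ * (↑g'⁻¹ : Γ(Mero.kmod X, U₂)).1 ⟨z.1, z.2.2⟩ = t.1 z
        rw [mul_assoc]
        exact (congrArg (t.1 z * ·) (congrFun (congrArg Subtype.val g'.mul_inv) ⟨z.1, z.2.2⟩)).trans (mul_one _)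
  have h1 : Presheaf.IsLocallySurjective J f := ⟨fun {U} t x hx ↦ by
    obtain ⟨V, hV, hxV, p₀, hb, -⟩ := hchart U x hx
    obtain ⟨q, hq⟩ := hb.2 ((Mero.divMod (D * E)).val.map (homOfLE hV).op t)
    refine ⟨V, homOfLE hV, ⟨q ⊗ₜ[X.sheaf.obj.obj (op V)] p₀, ?_⟩, hxV⟩
    exact hq⟩
  have h2 : Presheaf.IsLocallyInjective J f := ⟨fun {U} a b hab x hx ↦ by
    obtain ⟨V, hV, hxV, p₀, hb, hgen⟩ := hchart U.unop x hx
    refine ⟨V, homOfLE hV, ?_, hxV⟩
    obtain ⟨qa, hqa⟩ := ProjTwist.exists_eq_tmul (M := CohB1.toPMod (Mero.divMod D))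
      (N := CohB1.toPMod (Mero.divMod E)) p₀ hgen
      ((CohB1.tensorPre (Mero.divMod D) (Mero.divMod E)).map (homOfLE hV).op a)
    obtain ⟨qb, hqb⟩ := ProjTwist.exists_eq_tmul (M := CohB1.toPMod (Mero.divMod D))
      (N := CohB1.toPMod (Mero.divMod E)) p₀ hgen
      ((CohB1.tensorPre (Mero.divMod D) (Mero.divMod E)).map (homOfLE hV).op b)
    show (CohB1.tensorPre (Mero.divMod D) (Mero.divMod E)).map (homOfLE hV).op a =
      (CohB1.tensorPre (Mero.divMod D) (Mero.divMod E)).map (homOfLE hV).op b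
    have hab' : φ.app U a = φ.app U b := hab
    have h' := (PresheafOfModules.naturality_apply φ (homOfLE hV).op a).trans
      ((congrArg _ hab').trans (PresheafOfModules.naturality_apply φ (homOfLE hV).op b).symm)
    rw [hqa, hqb] at h' ⊢
    rw [hb.1 h']⟩
  have hW : J.W f := GrothendieckTopology.W_of_isLocallyBijective J f
  have hiso : IsIso ((CohB1.sheafifyMod X).map
      (show (show X.PresheafOfModules from CohB1.tensorPre (Mero.divMod D) (Mero.divMod E)) ⟶
        (Mero.divMod (D * E)).val from φ)) :=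
    (isIso_iff_of_reflects_iso _ (SheafOfModules.toSheaf X.ringCatSheaf)).mp ((J.W_iff f).mp hW)
  rw [mulTensor, Adjunction.homEquiv_counit]
  exact @IsIso.comp_isIso _ _ _ _ _ _ _ hiso ((asIso (PresheafOfModules.sheafificationAdjunction
    (R := X.ringCatSheaf) (𝟙 X.ringCatSheaf.obj)).counit).app (Mero.divMod (D * E))).isIso_hom

end Groth.Agent.MeroBasic
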