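import Groth.Agent.MeroBasic.Minimal

/-! Meromorphic functions extending a function on a schematically dense open. -/

namespace Groth.Agent.MeroBasic

open AlgebraicGeometry CategoryTheory TopologicalSpace
open scoped nonZeroDivisors

universe u

variable {X : Scheme.{u}}

lemma exists_extension_affine [IsLocallyNoetherian X] {W V : X.Opens} (hW : IsAffineOpen W)
    (hV : Function.Injective (X.presheaf.map (homOfLE (inf_le_left : W ⊓ V ≤ W)).op))
    (g : Γ(X, V)) :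
    ∃ s : Γ(Mero.kmod X, W), ∀ (y : X) (hy : y ∈ W) (hy' : y ∈ V),
      s.1 ⟨y, hy⟩ = LocalizedModule.mk (X.presheaf.germ V y hy' g) 1 := by
  classical
  have := IsLocallyNoetherian.component_noetherian (X := X) ⟨W, hW⟩
  let S := (associatedPrimes.finite Γ(X, W) Γ(X, W)).toFinset
  -- the associated points lie in `V`
  have hSV : ∀ q ∈ S, ∃ f : Γ(X, W), f ∉ q ∧ X.basicOpen f ≤ V := by
    intro q hq
    have hq' : q ∈ associatedPrimes Γ(X, W) Γ(X, W) := (Set.Finite.mem_toFinset _).mp hq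
    have hqp := hq'.isPrime
    obtain ⟨-, m, hm⟩ := (isAssociatedPrime_iff_exists_injective_linearMap q Γ(X, W)).mp hq'
    let b : Γ(X, W) := m (Ideal.Quotient.mk q 1)
    have hker : ∀ r : Γ(X, W), r * b = 0 ↔ r ∈ q := fun r ↦ by
      rw [← Ideal.Quotient.eq_zero_iff_mem, ← map_eq_zero_iff m hm]
      have : m (Ideal.Quotient.mk q r) = r * b := by
        change m (Ideal.Quotient.mk q r) = r • m _
        rw [← map_smul]
        congr 1
        simp [Algebra.smul_def]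
      rw [this]
    have hmem := fromSpec_mem hW ⟨q, hqp⟩
    have hpr : pr hW _ hmem = q := congrArg PrimeSpectrum.asIdeal (primeIdealOf_fromSpec hW ⟨q, hqp⟩)
    by_contra! hne
    have hb0 : b = 0 := hV (by
      rw [map_zero]
      refine eq_zero_of_germ_eq_zero fun y hy ↦ ?_
      rw [TopCat.Presheaf.germ_res_apply]
      by_contra hby
      have hle : q ≤ pr hW y hy.1 := fun r hr ↦ by
        by_contra hr'
        exact hby ((germ_eq_zero_iff hW b).mpr ⟨r, hr', (hker r).mpr hr⟩)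
      have hqV : hW.fromSpec ⟨q, hqp⟩ ∈ V := (specializes_of_le hW ⟨q, hqp⟩ hle).mem_open V.isOpen hy.2
      obtain ⟨f, hfV, hf⟩ := hW.exists_basicOpen_le ⟨_, hqV⟩ hmem
      refine hne f ?_ hfV
      rw [← hpr]
      exact (isUnit_germ_iff hW f).mp ((X.mem_basicOpen f _ hmem).mp hf))
    exact hqp.ne_top ((Ideal.eq_top_iff_one q).mpr ((hker 1).mp (by rw [hb0, mul_zero])))
  choose f hfq hfV using hSV
  let J : Ideal Γ(X, W) := Ideal.span (Set.range fun q : S ↦ f q.1 q.2)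
  obtain ⟨d, hdJ, hd⟩ : ∃ d ∈ J, ∀ q ∈ S, d ∉ q := by
    by_contra! hne
    have hsub : (J : Set Γ(X, W)) ⊆ ⋃ q ∈ (↑S : Set (Ideal Γ(X, W))), (q : Set Γ(X, W)) := fun d hd ↦ by
      obtain ⟨q, hq, hdq⟩ := hne d hd
      exact Set.mem_biUnion hq hdq
    obtain ⟨q, hq, hJq⟩ := (Ideal.subset_union_prime ⊥ ⊥ (fun q hq _ _ ↦
      ((Set.Finite.mem_toFinset _).mp hq).isPrime)).mp hsub
    exact hfq q hq (hJq (Ideal.subset_span ⟨⟨q, hq⟩, rfl⟩))
  have hdreg : d ∈ Γ(X, W)⁰ := by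
    by_contra hdn
    have : d ∈ ⋃ p ∈ associatedPrimes Γ(X, W) Γ(X, W), (p : Set Γ(X, W)) := by
      rw [biUnion_associatedPrimes_eq_compl_nonZeroDivisors]
      exact hdn
    obtain ⟨q, hq, hdq⟩ := Set.mem_iUnion₂.mp this
    exact hd q ((Set.Finite.mem_toFinset _).mpr hq) hdq
  have hdV : X.basicOpen d ≤ V := by
    intro y hy
    have hyW := X.basicOpen_le d hy
    have hdy : d ∉ pr hW y hyW := (isUnit_germ_iff hW d).mp ((X.mem_basicOpen d y hyW).mp hy)
    by_contra hyV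
    refine hdy (Ideal.span_le.mpr ?_ hdJ)
    rintro _ ⟨q, rfl⟩
    by_contra hfy
    exact hyV (hfV q.1 q.2 ((X.mem_basicOpen _ y hyW).mpr ((isUnit_germ_iff hW _).mpr hfy)))
  have hloc := hW.isLocalization_basicOpen d
  obtain ⟨⟨a, ⟨_, n, rfl⟩⟩, ha⟩ := IsLocalization.surj (Submonoid.powers d)
    (S := Γ(X, X.basicOpen d)) (X.presheaf.map (homOfLE hdV).op g)
  have hdn : d ^ n ∈ Mero.regSub X W := fun y ↦ germ_mem_nonZeroDivisors hW (pow_mem hdreg n)
  refine ⟨⟨fun y ↦ LocalizedModule.mk (X.presheaf.germ W y.1 y.2 a) (Mero.regGerm y ⟨d ^ n, hdn⟩),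
    fun y ↦ ⟨W, y.2, 𝟙 _, a, ⟨d ^ n, hdn⟩, fun _ ↦ rfl⟩⟩, fun y hy hy' ↦ ?_⟩
  refine LocalizedModule.mk_eq.mpr ⟨1, ?_⟩
  simp only [one_smul, Submonoid.smul_def, smul_eq_mul, OneMemClass.coe_one, one_mul]
  change X.presheaf.germ W y hy a = X.presheaf.germ W y hy (d ^ n) * X.presheaf.germ V y hy' g
  obtain ⟨_, ⟨W', hW', rfl⟩, hyW', hle⟩ :=
    X.isBasis_affineOpens.exists_subset_of_mem_open (show y ∈ W ⊓ V from ⟨hy, hy'⟩) (W ⊓ V).isOpen
  replace hle : W' ≤ W ⊓ V := hle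
  let d' : Γ(X, W') := X.presheaf.map (homOfLE (hle.trans inf_le_left)).op d
  let c : Γ(X, W') := X.presheaf.map (homOfLE (hle.trans inf_le_left)).op a -
    d' ^ n * X.presheaf.map (homOfLE (hle.trans inf_le_right)).op g
  have hc : X.presheaf.map (homOfLE (X.basicOpen_le d')).op c = 0 := by
    refine eq_zero_of_germ_eq_zero fun z hz ↦ ?_
    have hz' : z ∈ X.basicOpen d := by
      have := X.basicOpen_res d (homOfLE (hle.trans inf_le_left)).op
      rw [this] at hz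
      exact hz.2
    have ha' := congrArg (X.presheaf.germ (X.basicOpen d) z hz') ha
    simp only [RingHom.algebraMap_toAlgebra, map_mul, map_pow, TopCat.Presheaf.germ_res_apply] at ha'
    simp only [c, d', map_sub, map_mul, map_pow, TopCat.Presheaf.germ_res_apply]
    rw [← ha']
    ring
  have hlocW' := hW'.isLocalization_basicOpen d'
  obtain ⟨⟨_, k, rfl⟩, hk⟩ :=
    (IsLocalization.map_eq_zero_iff (Submonoid.powers d') Γ(X, X.basicOpen d') c).mp hc
  have h1 := congrArg (X.presheaf.germ W' y hyW') hk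
  simp only [c, d', map_sub, map_mul, map_pow, map_zero, TopCat.Presheaf.germ_res_apply] at h1
  have h2 := mem_nonZeroDivisors_iff_left.mp
    (pow_mem (germ_mem_nonZeroDivisors hW (hx := hy) hdreg) k) _ h1
  rw [map_pow]
  exact sub_eq_zero.mp h2

lemma exists_extension_noetherian [IsLocallyNoetherian X] {U V : X.Opens}
    (hV : ∀ W : X.Opens, W ≤ U →
      Function.Injective (X.presheaf.map (homOfLE (inf_le_left : W ⊓ V ≤ W)).op))
    (g : Γ(X, V)) :
    ∃ s : Γ(Mero.kmod X, U), ∀ (y : X) (hy : y ∈ U) (hy' : y ∈ V),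
      s.1 ⟨y, hy⟩ = LocalizedModule.mk (X.presheaf.germ V y hy' g) 1 := by
  have hloc : ∀ x : U, ∃ W : X.Opens, x.1 ∈ W ∧ IsAffineOpen W ∧ W ≤ U := fun x ↦ by
    obtain ⟨_, ⟨W, hW, rfl⟩, hxW, hWU⟩ := X.isBasis_affineOpens.exists_subset_of_mem_open x.2 U.isOpen
    exact ⟨W, hxW, hW, hWU⟩
  choose W hxW hW hWU using hloc
  choose s hs using fun x ↦ exists_extension_affine (hW x) (hV _ (hWU x)) g
  have hcompat : ∀ (x x' : U) (y : X) (hy : y ∈ W x) (hy' : y ∈ W x'),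
      (s x).1 ⟨y, hy⟩ = (s x').1 ⟨y, hy'⟩ := by
    intro x x' y hy hy'
    let T := W x ⊓ W x'
    have hT : T ≤ U := inf_le_left.trans (hWU x)
    have hinj : Function.Injective ((Mero.kmod X).presheaf.map (homOfLE (inf_le_left : T ⊓ V ≤ T)).op) := by
      refine kmod_map_injective inf_le_left fun Z hZ a b hab ↦ hV Z (hZ.trans hT) ?_
      have hle : Z ⊓ V ≤ Z ⊓ (T ⊓ V) := fun z hz ↦ ⟨hz.1, hZ hz.1, hz.2⟩
      have := congrArg (X.presheaf.map (homOfLE hle).op) hab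
      simpa only [← CommRingCat.comp_apply, ← Functor.map_comp] using! this
    have := @hinj ((Mero.kmod X).presheaf.map (homOfLE (inf_le_left : T ≤ W x)).op (s x))
      ((Mero.kmod X).presheaf.map (homOfLE (inf_le_right : T ≤ W x')).op (s x'))
      (kmod_ext fun z ↦ (hs x z.1 z.2.1.1 z.2.2).trans (hs x' z.1 z.2.1.2 z.2.2).symm)
    exact congrFun (congrArg Subtype.val this) ⟨y, hy, hy'⟩
  refine ⟨⟨fun y ↦ (s y).1 ⟨y.1, hxW y⟩, fun y ↦ ?_⟩, fun y hy hy' ↦ hs ⟨y, hy⟩ y (hxW _) hy'⟩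
  obtain ⟨Z, hyZ, i, a, b, h⟩ := exists_fraction (s y) ⟨y.1, hxW y⟩
  exact ⟨Z, hyZ, homOfLE (i.trans (hWU y)), a, b, fun z ↦
    (hcompat ⟨z.1, hWU y (i z.2)⟩ y z.1 (hxW _) (i z.2)).trans (h z)⟩

end Groth.Agent.MeroBasic
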