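import Groth.Agent.MeroBasic.Reg
import Groth.Prelude.Def_MeroDiv
import Mathlib.AlgebraicGeometry.Noetherian
import Mathlib.RingTheory.Ideal.AssociatedPrime.Localization
import Mathlib.RingTheory.Ideal.Operations
import Mathlib.RingTheory.Ideal.AssociatedPrime.Finiteness

/-! Sections of the sheaf of meromorphic functions on affine opens. -/

namespace Groth.Agent.MeroBasic

open AlgebraicGeometry CategoryTheory TopologicalSpace
open scoped nonZeroDivisors

universe u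

variable {X : Scheme.{u}}

lemma kstalk_mk_eq_zero_iff {x : X} (a : X.presheaf.stalk x) (s : Mero.regStalk X x) :
    (LocalizedModule.mk a s : Mero.KStalk X x) = 0 ↔ a = 0 := by
  constructor
  · intro h
    rw [← LocalizedModule.zero_mk (S := Mero.regStalk X x) s, LocalizedModule.mk_eq] at h
    obtain ⟨w, hw⟩ := h
    simp only [smul_zero, Submonoid.smul_def, smul_eq_mul, ← mul_assoc] at hw
    exact mem_nonZeroDivisors_iff_left.mp
      (Mero.regStalk_le_nonZeroDivisors x (mul_mem w.2 s.2)) a hw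
  · rintro rfl
    exact LocalizedModule.zero_mk s

lemma kstalk_mk_mul {x : X} (c a : X.presheaf.stalk x) (s : Mero.regStalk X x) :
    (LocalizedModule.mk c 1 : Mero.KStalk X x) * LocalizedModule.mk a s = LocalizedModule.mk (c * a) s := by
  refine LocalizedModule.mk_mul_mk.trans ?_
  rw [one_mul]

lemma kmod_ext {U : X.Opens} {f g : Γ(Mero.kmod X, U)} (h : ∀ x : U, f.1 x = g.1 x) : f = g :=
  Subtype.ext (funext h)

lemma toK_injective (U : X.Opens) : Function.Injective (Mero.toK X U) := by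
  rw [injective_iff_map_eq_zero]
  intro a ha
  refine eq_zero_of_germ_eq_zero fun x hx ↦ ?_
  have := congrFun (congrArg Subtype.val ha) ⟨x, hx⟩
  exact (kstalk_mk_eq_zero_iff _ _).mp this

lemma toK_mul_apply {U : X.Opens} (c : Γ(X, U)) (f : Γ(Mero.kmod X, U)) (x : U) :
    (Mero.toK X U c * f).1 x =
      (LocalizedModule.mk (X.presheaf.germ U x.1 x.2 c) 1 : Mero.KStalk X x.1) * f.1 x := rfl

lemma exists_fraction {U : X.Opens} (f : Γ(Mero.kmod X, U)) (x : U) :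
    ∃ (V : X.Opens) (_ : x.1 ∈ V) (i : V ≤ U) (a : Γ(X, V)) (b : Mero.regSub X V), ∀ y : V,
      f.1 ⟨y.1, i y.2⟩ =
        LocalizedModule.mk (X.presheaf.germ V y.1 y.2 a) (Mero.regGerm y b) := by
  obtain ⟨V, hV, i, a, b, h⟩ := f.2 x
  exact ⟨V, hV, i.le, a, b, h⟩

lemma kmod_map_injective {U V : X.Opens} (hVU : V ≤ U)
    (hV : ∀ W : X.Opens, W ≤ U →
      Function.Injective (X.presheaf.map (homOfLE (inf_le_left : W ⊓ V ≤ W)).op)) :
    Function.Injective ((Mero.kmod X).presheaf.map (homOfLE hVU).op) := by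
  rw [injective_iff_map_eq_zero]
  intro f hf
  refine kmod_ext fun x ↦ ?_
  obtain ⟨W, hW, i, a, b, h⟩ := exists_fraction f x
  have ha : a = 0 := hV W i (by
    rw [map_zero]
    refine eq_zero_of_germ_eq_zero fun y hy ↦ ?_
    rw [TopCat.Presheaf.germ_res_apply]
    have h2 := congrFun (congrArg Subtype.val hf) ⟨y, hy.2⟩
    have h1 : f.1 ⟨y, i hy.1⟩ = 0 := h2
    rw [h ⟨y, hy.1⟩] at h1
    exact (kstalk_mk_eq_zero_iff _ _).mp h1)
  rw [h ⟨x.1, hW⟩]
  exact (kstalk_mk_eq_zero_iff _ _).mpr (by rw [ha, map_zero])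

lemma exists_pow_mul_eq_zero {U : X.Opens} (hU : IsCompact (U : Set X)) (u : Γ(X, U))
    (g : Γ(Mero.kmod X, U)) (hg : ∀ y : U, y.1 ∈ X.basicOpen u → g.1 y = 0) :
    ∃ n : ℕ, Mero.toK X U u ^ n * g = 0 := by
  have hloc : ∀ x : U, ∃ W : X.Opens, x.1 ∈ W ∧ ∃ hW : W ≤ U, ∃ n : ℕ, ∀ y : W,
      (Mero.toK X U u ^ n * g).1 ⟨y.1, hW y.2⟩ = 0 := by
    intro x
    obtain ⟨V, hV, i, a, b, h⟩ := exists_fraction g x
    obtain ⟨_, ⟨W, hWa, rfl⟩, hxW, hWV⟩ := X.isBasis_affineOpens.exists_subset_of_mem_open hV V.isOpen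
    replace hWV : W ≤ V := hWV
    have hWU : W ≤ U := hWV.trans i
    let a' : Γ(X, W) := X.presheaf.map (homOfLE hWV).op a
    let u' : Γ(X, W) := X.presheaf.map (homOfLE hWU).op u
    have hlocW := hWa.isLocalization_basicOpen u'
    have h0 : X.presheaf.map (homOfLE (X.basicOpen_le u')).op a' = 0 := by
      refine eq_zero_of_germ_eq_zero fun y hy ↦ ?_
      rw [TopCat.Presheaf.germ_res_apply, TopCat.Presheaf.germ_res_apply]
      have hy' : y ∈ X.basicOpen u := by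
        have := X.basicOpen_res u (homOfLE hWU).op
        rw [this] at hy
        exact hy.2
      have h1 := hg ⟨y, hWU (X.basicOpen_le u' hy)⟩ hy'
      rw [h ⟨y, hWV (X.basicOpen_le u' hy)⟩] at h1
      exact (kstalk_mk_eq_zero_iff _ _).mp h1
    obtain ⟨⟨_, n, rfl⟩, hn⟩ :=
      (IsLocalization.map_eq_zero_iff (Submonoid.powers u') Γ(X, X.basicOpen u') a').mp h0
    refine ⟨W, hxW, hWU, n, fun y ↦ ?_⟩
    rw [← map_pow, toK_mul_apply, h ⟨y.1, hWV y.2⟩, kstalk_mk_mul, kstalk_mk_eq_zero_iff]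
    have := congrArg (X.presheaf.germ W y.1 y.2) hn
    simp only [map_mul, map_pow, map_zero, u', a', TopCat.Presheaf.germ_res_apply] at this
    simpa using this
  choose W hxW hWU n hn using hloc
  obtain ⟨t, ht⟩ := hU.elim_finite_subcover (fun x : U ↦ (W x : Set X)) (fun x ↦ (W x).isOpen)
    (fun x hx ↦ Set.mem_iUnion.mpr ⟨⟨x, hx⟩, hxW ⟨x, hx⟩⟩)
  refine ⟨t.sup n, kmod_ext fun y ↦ ?_⟩
  obtain ⟨x, hx, hyx⟩ := Set.mem_iUnion₂.mp (ht y.2)
  obtain ⟨k, hk⟩ := Nat.exists_eq_add_of_le (Finset.le_sup (f := n) hx)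
  rw [hk, add_comm (n x) k, pow_add, mul_assoc, Mero.kmod_mul_apply, hn x ⟨y.1, hyx⟩, mul_zero]
  rfl

section Good

variable {U : X.Opens} (hU : IsAffineOpen U) (S : Finset (Ideal Γ(X, U)))
  (hcover : ∀ (x : X) (hx : x ∈ U) (a : Γ(X, U)),
    X.presheaf.germ U x hx a ∉ (X.presheaf.stalk x)⁰ → ∃ p ∈ S, p ≤ pr hU x hx ∧ a ∈ p)
  (hmin : ∀ p ∈ S, ∃ (x : X) (hx : x ∈ U), pr hU x hx = p ∧
    ∀ g ∈ (X.presheaf.stalk x)⁰, IsUnit g)

include hcover hmin in
lemma regStalk_eq {x : X} (hx : x ∈ U) : Mero.regStalk X x = (X.presheaf.stalk x)⁰ := by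
  classical
  refine le_antisymm (Mero.regStalk_le_nonZeroDivisors x) fun z hz ↦ ?_
  obtain ⟨a, s, hs, ha⟩ := exists_germ_mul_eq hU (hx := hx) z
  have haz : X.presheaf.germ U x hx a ∈ (X.presheaf.stalk x)⁰ :=
    ha ▸ mul_mem hz ((isUnit_germ_iff hU s).mpr hs).mem_nonZeroDivisors
  -- no distinguished prime below `x` contains `a`
  have hlow : ∀ p ∈ S, p ≤ pr hU x hx → a ∉ p := by
    intro p hp hpx hap
    obtain ⟨y, hy, hyp, hyu⟩ := hmin p hp
    have h1 : X.presheaf.germ U y hy a ∈ (X.presheaf.stalk y)⁰ := by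
      rw [mem_nonZeroDivisors_iff_left]
      intro c hc
      obtain ⟨b, t, ht, hb⟩ := exists_germ_mul_eq hU (hx := hy) c
      have h0 : X.presheaf.germ U y hy (a * b) = 0 := by
        rw [map_mul, ← hb, ← mul_assoc, hc, zero_mul]
      obtain ⟨w, hw, hwab⟩ := (germ_eq_zero_iff hU _).mp h0
      have h2 : X.presheaf.germ U x hx (w * b) = 0 :=
        mem_nonZeroDivisors_iff_left.mp haz _ (by
          rw [← map_mul, show a * (w * b) = w * (a * b) by ring, hwab, map_zero])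
      obtain ⟨v, hv, hvwb⟩ := (germ_eq_zero_iff hU _).mp h2
      have h3 : X.presheaf.germ U y hy b = 0 := (germ_eq_zero_iff hU _).mpr
        ⟨v * w, fun hvw ↦ (hU.primeIdealOf ⟨y, hy⟩).isPrime.mem_or_mem hvw |>.elim
          (fun h ↦ hv (hpx (hyp ▸ h))) hw, by rw [mul_assoc, hvwb]⟩
      rw [h3] at hb
      exact ((isUnit_germ_iff hU t).mpr ht).mul_left_eq_zero.mp hb
    exact (isUnit_germ_iff hU a).mp (hyu _ h1) (hyp.symm ▸ hap)
  have hchoose : ∀ p ∈ S.filter (fun p ↦ ¬ p ≤ pr hU x hx), ∃ w ∈ p, w ∉ pr hU x hx :=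
    fun p hp ↦ SetLike.not_le_iff_exists.mp (Finset.mem_filter.mp hp).2
  choose w hwp hwx using hchoose
  let P := S.filter (fun p ↦ ¬ p ≤ pr hU x hx)
  let u := s * ∏ p ∈ P.attach, w p.1 p.2
  have hu : u ∉ pr hU x hx := fun h ↦
    (hU.primeIdealOf ⟨x, hx⟩).isPrime.mem_or_mem h |>.elim hs fun h ↦ by
      obtain ⟨p, -, hp⟩ := (hU.primeIdealOf ⟨x, hx⟩).isPrime.prod_mem_iff.mp h
      exact hwx p.1 p.2 hp
  have hxu : x ∈ X.basicOpen u := (X.mem_basicOpen u x hx).mpr ((isUnit_germ_iff hU u).mpr hu)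
  let ρ := X.presheaf.map (homOfLE (X.basicOpen_le u)).op
  have hsu : IsUnit (ρ s) := isUnit_of_dvd_unit (map_dvd _ (dvd_mul_right s _))
    (X.toRingedSpace.isUnit_res_basicOpen u)
  refine ⟨X.basicOpen u, hxu, ρ a * ↑hsu.unit⁻¹, fun y ↦ ?_, ?_⟩
  · rw [map_mul]
    refine mul_mem ?_ ((Units.isUnit _).map _).mem_nonZeroDivisors
    rw [TopCat.Presheaf.germ_res_apply]
    by_contra hya
    obtain ⟨p, hp, hpy, hap⟩ := hcover y.1 (X.basicOpen_le u y.2) a hya
    have hpx : ¬ p ≤ pr hU x hx := fun h ↦ hlow p hp h hap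
    have hyu : u ∉ pr hU y.1 (X.basicOpen_le u y.2) :=
      (isUnit_germ_iff hU u).mp ((X.mem_basicOpen u y.1 _).mp y.2)
    exact hyu (Ideal.mul_mem_left _ _ (Ideal.mem_of_dvd _ (Finset.dvd_prod_of_mem _ (Finset.mem_attach P ⟨p, Finset.mem_filter.mpr ⟨hp, hpx⟩⟩)) (hpy (hwp _ _))))
  · have hu' : IsUnit (X.presheaf.germ U x hx s) := (isUnit_germ_iff hU s).mpr hs
    refine hu'.mul_left_injective ?_
    dsimp only
    rw [ha, map_mul, ← TopCat.Presheaf.germ_res_apply X.presheaf (homOfLE (X.basicOpen_le u)) x hxu s,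
      mul_assoc, ← map_mul, show (↑hsu.unit⁻¹ : Γ(X, X.basicOpen u)) * ρ s = 1 from hsu.val_inv_mul, map_one, mul_one,
      TopCat.Presheaf.germ_res_apply]

include hcover hmin in
lemma isLocalization_kmod :
    @IsLocalization Γ(X, U) _ (nonZeroDivisors Γ(X, U)) Γ(Mero.kmod X, U) _ (Mero.toK X U).toAlgebra := by
  classical
  let := (Mero.toK X U).toAlgebra
  rw [isLocalization_iff]
  refine ⟨fun s ↦ ?_, fun f ↦ ?_, fun {a b} h ↦ ⟨1, by rw [toK_injective U h]⟩⟩
  · have hs : s.1 ∈ Mero.regSub X U := (regSub_eq_nonZeroDivisors hU).symm ▸ s.2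
    let g : Γ(Mero.kmod X, U) := ⟨fun x ↦ LocalizedModule.mk (1 : X.presheaf.stalk x.1) (Mero.regGerm x ⟨s.1, hs⟩),
      fun x ↦ ⟨U, x.2, 𝟙 _, 1, ⟨s.1, hs⟩, fun y ↦ Mero.mk_congr (map_one _).symm rfl⟩⟩
    refine IsUnit.of_mul_eq_one g (kmod_ext fun x ↦ ?_)
    rw [RingHom.algebraMap_toAlgebra, toK_mul_apply, kstalk_mk_mul, Mero.kmod_one_apply, mul_one]
    exact Mero.mk_self_eq_one (Mero.regGerm x ⟨s.1, hs⟩)
  · let J : Ideal Γ(X, U) :=
      { carrier := {d | ∃ c, Mero.toK X U d * f = Mero.toK X U c}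
        add_mem' := by
          rintro a b ⟨c, hc⟩ ⟨e, he⟩
          exact ⟨c + e, by rw [map_add, map_add, add_mul, hc, he]⟩
        zero_mem' := ⟨0, by rw [map_zero, zero_mul]⟩
        smul_mem' := by
          rintro r a ⟨c, hc⟩
          exact ⟨r * c, by rw [smul_eq_mul, map_mul, map_mul, mul_assoc, hc]⟩ }
    have hJ : ∀ p ∈ S, ¬ J ≤ p := by
      intro p hp hJp
      obtain ⟨x, hx, hxp, hxu⟩ := hmin p hp
      obtain ⟨V, hV, i, a, b, h⟩ := exists_fraction f ⟨x, hx⟩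
      obtain ⟨u, huV, hxu'⟩ := hU.exists_basicOpen_le ⟨x, hV⟩ hx
      have hloc := hU.isLocalization_basicOpen u
      obtain ⟨⟨a', ⟨_, k, rfl⟩⟩, ha'⟩ := IsLocalization.surj (Submonoid.powers u)
        (S := Γ(X, X.basicOpen u)) (X.presheaf.map (homOfLE huV).op a)
      obtain ⟨⟨b', ⟨_, l, rfl⟩⟩, hb'⟩ := IsLocalization.surj (Submonoid.powers u)
        (S := Γ(X, X.basicOpen u)) (X.presheaf.map (homOfLE huV).op b.1)
      let D := u ^ k * b'
      let C := u ^ l * a'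
      obtain ⟨n, hn⟩ := exists_pow_mul_eq_zero hU.isCompact u (Mero.toK X U D * f - Mero.toK X U C) (by
        intro y hy
        have ha := congrArg (X.presheaf.germ (X.basicOpen u) y.1 hy) ha'
        have hb := congrArg (X.presheaf.germ (X.basicOpen u) y.1 hy) hb'
        simp only [RingHom.algebraMap_toAlgebra, map_mul, map_pow, TopCat.Presheaf.germ_res_apply] at ha hb
        change (Mero.toK X U D * f).1 y + -(Mero.toK X U C).1 y = 0
        rw [← sub_eq_add_neg, sub_eq_zero, toK_mul_apply, h ⟨y.1, huV hy⟩, kstalk_mk_mul,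
          Mero.toK_apply, LocalizedModule.mk_eq]
        refine ⟨1, ?_⟩
        simp only [one_smul, Submonoid.smul_def, smul_eq_mul, OneMemClass.coe_one, one_mul, D, C,
          map_mul, map_pow]
        rw [← ha, ← hb]
        ring)
      have hmem : u ^ n * D ∈ J := ⟨u ^ n * C, by
        rw [mul_sub, sub_eq_zero, ← mul_assoc] at hn
        rw [map_mul, map_pow, hn, ← map_pow, ← map_mul]⟩
      refine (isUnit_germ_iff hU _).mp ?_ (hxp.symm ▸ hJp hmem)
      have hux : IsUnit (X.presheaf.germ U x hx u) := (X.mem_basicOpen u x hx).mp hxu'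
      have hb := congrArg (X.presheaf.germ (X.basicOpen u) x hxu') hb'
      simp only [RingHom.algebraMap_toAlgebra, map_mul, map_pow, TopCat.Presheaf.germ_res_apply] at hb
      simp only [D, map_mul, map_pow]
      refine (hux.pow n).mul ((hux.pow k).mul ?_)
      rw [← hb]
      exact (hxu _ (b.2 ⟨x, hV⟩)).mul (hux.pow l)
    obtain ⟨d, hdJ, hd⟩ : ∃ d ∈ J, ∀ p ∈ S, d ∉ p := by
      by_contra! hne
      have hsub : (J : Set Γ(X, U)) ⊆ ⋃ p ∈ (↑S : Set (Ideal Γ(X, U))), (p : Set Γ(X, U)) := fun d hd ↦ by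
        obtain ⟨p, hp, hdp⟩ := hne d hd
        exact Set.mem_biUnion hp hdp
      obtain ⟨p, hp, hJp⟩ := (Ideal.subset_union_prime ⊥ ⊥ (fun p hp _ _ ↦ by
        obtain ⟨x, hx, rfl, -⟩ := hmin p hp
        exact (hU.primeIdealOf ⟨x, hx⟩).isPrime)).mp hsub
      exact hJ p hp hJp
    obtain ⟨c, hc⟩ := hdJ
    refine ⟨⟨c, d, ?_⟩, by rw [mul_comm]; exact hc⟩
    rw [← regSub_eq_nonZeroDivisors hU]
    intro x
    by_contra hx
    obtain ⟨p, hp, -, hdp⟩ := hcover x.1 x.2 d hx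
    exact hd p hp hdp

end Good

lemma noetherian_good [IsLocallyNoetherian X] {U : X.Opens} (hU : IsAffineOpen U) :
    ∃ S : Finset (Ideal Γ(X, U)),
      (∀ (x : X) (hx : x ∈ U) (a : Γ(X, U)), X.presheaf.germ U x hx a ∉ (X.presheaf.stalk x)⁰ →
        ∃ p ∈ S, p ≤ pr hU x hx ∧ a ∈ p) ∧
      (∀ p ∈ S, ∃ (x : X) (hx : x ∈ U), pr hU x hx = p ∧ ∀ g ∈ (X.presheaf.stalk x)⁰, IsUnit g) := by
  have := IsLocallyNoetherian.component_noetherian (X := X) ⟨U, hU⟩
  refine ⟨(associatedPrimes.finite Γ(X, U) Γ(X, U)).toFinset, fun x hx a ha ↦ ?_, fun p hp ↦ ?_⟩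
  · rw [mem_nonZeroDivisors_iff_left] at ha
    push Not at ha
    obtain ⟨c, hac, hc⟩ := ha
    obtain ⟨b, t, ht, hb⟩ := exists_germ_mul_eq hU (hx := hx) c
    have h0 : X.presheaf.germ U x hx (a * b) = 0 := by
      rw [map_mul, ← hb, ← mul_assoc, hac, zero_mul]
    obtain ⟨w, hw, hwab⟩ := (germ_eq_zero_iff hU _).mp h0
    let M : Submodule Γ(X, U) Γ(X, U) := Submodule.span Γ(X, U) {w * b}
    have hann : Module.annihilator Γ(X, U) M ≤ pr hU x hx := by
      intro r hr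
      by_contra hr'
      have h1 : r * (w * b) = 0 := congrArg Subtype.val
        (Module.mem_annihilator.mp hr ⟨w * b, Submodule.mem_span_singleton_self _⟩)
      have h2 : X.presheaf.germ U x hx (w * b) = 0 := (germ_eq_zero_iff hU _).mpr ⟨r, hr', h1⟩
      rw [map_mul, ← hb, ((isUnit_germ_iff hU w).mpr hw).mul_right_eq_zero,
        ((isUnit_germ_iff hU t).mpr ht).mul_left_eq_zero] at h2
      exact hc h2
    obtain ⟨q, hq, hqx⟩ := Ideal.exists_minimalPrimes_le hann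
    refine ⟨q, ?_, hqx, hq.le ?_⟩
    · rw [Set.Finite.mem_toFinset]
      exact associatedPrimes.subset_of_injective (f := M.subtype) M.injective_subtype
        (Module.associatedPrimes.minimalPrimes_annihilator_subset_associatedPrimes _ _ hq)
    · refine Module.mem_annihilator.mpr ?_
      rintro ⟨m, hm⟩
      obtain ⟨r, rfl⟩ := Submodule.mem_span_singleton.mp hm
      apply Subtype.ext
      change a * (r * (w * b)) = 0
      rw [show a * (r * (w * b)) = r * (w * (a * b)) by ring, hwab, mul_zero]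
  · rw [Set.Finite.mem_toFinset] at hp
    have := hp.isPrime
    refine ⟨_, fromSpec_mem hU ⟨p, hp.isPrime⟩,
      congrArg PrimeSpectrum.asIdeal (primeIdealOf_fromSpec hU ⟨p, hp.isPrime⟩), fun g hg ↦ ?_⟩
    set hmem := fromSpec_mem hU ⟨p, hp.isPrime⟩
    have hpr : pr hU _ hmem = p :=
      congrArg PrimeSpectrum.asIdeal (primeIdealOf_fromSpec hU ⟨p, hp.isPrime⟩)
    obtain ⟨-, m, hm⟩ := ((isAssociatedPrime_iff_exists_injective_linearMap p Γ(X, U)).mp hp)
    obtain ⟨a, t, ht, ha⟩ := exists_germ_mul_eq hU (hx := hmem) g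
    by_contra hgu
    have hap : a ∈ p := by
      by_contra hap
      have := (isUnit_germ_iff hU a).mpr (hpr.symm ▸ hap)
      rw [← ha, IsUnit.mul_iff] at this
      exact hgu this.1
    let b : Γ(X, U) := m (Ideal.Quotient.mk p 1)
    have hker : ∀ r : Γ(X, U), r * b = 0 ↔ r ∈ p := fun r ↦ by
      rw [← Ideal.Quotient.eq_zero_iff_mem, ← map_eq_zero_iff m hm]
      have : m (Ideal.Quotient.mk p r) = r * b := by
        change m (Ideal.Quotient.mk p r) = r • m _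
        rw [← map_smul]
        congr 1
        simp [Algebra.smul_def]
      rw [this]
    have h1 : X.presheaf.germ U _ hmem b = 0 := by
      refine mem_nonZeroDivisors_iff_left.mp
        (ha ▸ mul_mem hg ((isUnit_germ_iff hU t).mpr ht).mem_nonZeroDivisors :
          X.presheaf.germ U _ hmem a ∈ (X.presheaf.stalk _)⁰) _ ?_
      rw [← map_mul, (hker a).mpr hap, map_zero]
    obtain ⟨r, hr, hr0⟩ := (germ_eq_zero_iff hU _).mp h1
    exact hr (hpr.symm ▸ (hker r).mp hr0)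

lemma minimalPrimes_finite (hb : ∀ U : X.Opens, IsCompact (U : Set X) → (irreducibleComponents (U : Scheme.{u})).Finite)
    {U : X.Opens} (hU : IsAffineOpen U) : (minimalPrimes Γ(X, U)).Finite := by
  let e := hU.isoSpec.hom.homeomorph
  have hspec : (irreducibleComponents (PrimeSpectrum Γ(X, U))).Finite := by
    have := hb U hU.isCompact
    refine Set.Finite.of_finite_image (f := fun T ↦ e ⁻¹' T) (this.subset ?_) ?_
    · rintro _ ⟨T, hT, rfl⟩
      obtain ⟨z, hz⟩ := hT.1.1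
      exact preimage_mem_irreducibleComponents hT e.isOpenEmbedding
        ⟨z, hz, e.symm z, e.apply_symm_apply z⟩
    · exact fun T _ T' _ h ↦ e.surjective.preimage_injective h
  have := hspec.to_subtype
  have : Finite (minimalPrimes Γ(X, U)) :=
    Finite.of_equiv (irreducibleComponents (PrimeSpectrum Γ(X, U)))
      ((minimalPrimes.equivIrreducibleComponents Γ(X, U)).toEquiv.trans OrderDual.ofDual).symm
  exact Set.toFinite _

lemma minimal_good (ha : ∀ x : X, Curv2.IsWeakAssPoint (Coh.structureModule X) x → ∀ y : X, y ⤳ x → y = x)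
    (hb : ∀ U : X.Opens, IsCompact (U : Set X) → (irreducibleComponents (U : Scheme.{u})).Finite)
    {U : X.Opens} (hU : IsAffineOpen U) :
    ∃ S : Finset (Ideal Γ(X, U)),
      (∀ (x : X) (hx : x ∈ U) (a : Γ(X, U)), X.presheaf.germ U x hx a ∉ (X.presheaf.stalk x)⁰ →
        ∃ p ∈ S, p ≤ pr hU x hx ∧ a ∈ p) ∧
      (∀ p ∈ S, ∃ (x : X) (hx : x ∈ U), pr hU x hx = p ∧ ∀ g ∈ (X.presheaf.stalk x)⁰, IsUnit g) := by
  have hfin := minimalPrimes_finite hb hU
  have hminpt : ∀ (q : Ideal Γ(X, U)) (hq : q ∈ minimalPrimes Γ(X, U)) (y : X) (hy : y ∈ U),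
      pr hU y hy = q → ∀ y' : X, y' ⤳ y → y' = y := by
    intro q hq y hy hyq y' hy'
    have hy'U := hy'.mem_open U.isOpen hy
    have h1 : pr hU y' hy'U = q :=
      le_antisymm ((pr_le_pr hU hy').trans hyq.le)
        (hq.2 ⟨(hU.primeIdealOf ⟨y', hy'U⟩).isPrime, bot_le⟩ ((pr_le_pr hU hy').trans hyq.le))
    have h2 : hU.primeIdealOf ⟨y', hy'U⟩ = hU.primeIdealOf ⟨y, hy⟩ :=
      PrimeSpectrum.ext (h1.trans hyq.symm)
    exact (hU.fromSpec_primeIdealOf ⟨y', hy'U⟩).symm.trans ((congrArg hU.fromSpec h2).trans (hU.fromSpec_primeIdealOf ⟨y, hy⟩))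
  refine ⟨hfin.toFinset, fun x hx a hna ↦ ?_, fun p hp ↦ ?_⟩
  · obtain ⟨x', hsp, hw, hnu⟩ := exists_weakAss_of_not_mem_nonZeroDivisors x _ hna
    rw [TopCat.Presheaf.germ_stalkSpecializes_apply, isUnit_germ_iff hU, not_not] at hnu
    have hx' := hsp.mem_open U.isOpen hx
    refine ⟨pr hU x' hx', ?_, pr_le_pr hU hsp, hnu⟩
    rw [Set.Finite.mem_toFinset]
    refine ⟨⟨(hU.primeIdealOf ⟨x', hx'⟩).isPrime, bot_le⟩, fun q hq hle ↦ ?_⟩
    have h1 : hU.fromSpec ⟨q, hq.1⟩ = x' := ha x' hw _ (specializes_of_le hU ⟨q, hq.1⟩ hle)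
    have h2 : hU.fromSpec ⟨q, hq.1⟩ = hU.fromSpec (hU.primeIdealOf ⟨x', hx'⟩) := by
      rw [h1, hU.fromSpec_primeIdealOf]
    exact (congrArg PrimeSpectrum.asIdeal (hU.fromSpec.isOpenEmbedding.injective h2)).ge
  · rw [Set.Finite.mem_toFinset] at hp
    refine ⟨_, fromSpec_mem hU ⟨p, hp.isPrime⟩,
      congrArg PrimeSpectrum.asIdeal (primeIdealOf_fromSpec hU ⟨p, hp.isPrime⟩), fun g hg ↦ ?_⟩
    exact isUnit_of_mem_nonZeroDivisors_of_minimal
      (hminpt p hp _ _ (congrArg PrimeSpectrum.asIdeal (primeIdealOf_fromSpec hU ⟨p, hp.isPrime⟩))) hg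

end Groth.Agent.MeroBasic
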