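import Groth.Agent.MeroBasic.KSections
import Mathlib.AlgebraicGeometry.Properties

/-! Weakly associated points, generic points, and meromorphic functions determined at generic points. -/

namespace Groth.Agent.MeroBasic

open AlgebraicGeometry CategoryTheory TopologicalSpace
open scoped nonZeroDivisors

universe u

variable {X Y : Scheme.{u}}

lemma exists_eq_smul_one_germ (x : X) (s : (Coh.structureModule X).presheaf.stalk x) :
    ∃ c : X.presheaf.stalk x, s = c •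
      (Coh.structureModule X).presheaf.germ ⊤ x (trivial : x ∈ (⊤ : X.Opens)) (1 : Γ(X, ⊤)) := by
  obtain ⟨U, hx, ρ, rfl⟩ := (Coh.structureModule X).presheaf.exists_germ_eq s
  refine ⟨X.presheaf.germ U x hx ρ, ?_⟩
  have e1 : (Coh.structureModule X).presheaf.germ ⊤ x (trivial : x ∈ (⊤ : X.Opens)) (1 : Γ(X, ⊤)) =
      (Coh.structureModule X).presheaf.germ U x hx (1 : Γ(X, U)) := by
    refine (TopCat.Presheaf.germ_res_apply (Coh.structureModule X).presheaf (homOfLE (le_top : U ≤ ⊤)) x hx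
      (1 : Γ(X, ⊤))).symm.trans (congrArg _ ?_)
    exact map_one (X.presheaf.map _).hom
  rw [e1]
  refine Eq.trans ?_ (PresheafOfModules.germ_smul (R := X.presheaf)
    (M := show PresheafOfModules (X.presheaf ⋙ forget₂ CommRingCat RingCat) from
      (Coh.structureModule X).val) x U hx ρ (1 : Γ(X, U)))
  congr 1
  exact (mul_one (show Γ(X, U) from ρ)).symm

lemma exists_radical_eq_of_isWeakAssPoint {x : X}
    (h : Curv2.IsWeakAssPoint (Coh.structureModule X) x) :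
    ∃ c : X.presheaf.stalk x,
      Ideal.radical (LinearMap.ker (LinearMap.toSpanSingleton (X.presheaf.stalk x) (X.presheaf.stalk x) c)) =
        IsLocalRing.maximalIdeal (X.presheaf.stalk x) := by
  obtain ⟨s, hs⟩ := h
  obtain ⟨c, rfl⟩ := exists_eq_smul_one_germ x s
  refine ⟨c, hs ▸ congrArg Ideal.radical ?_⟩
  ext r
  simp only [LinearMap.mem_ker, LinearMap.toSpanSingleton_apply, smul_smul, smul_eq_mul]
  exact ⟨fun h ↦ by rw [h, zero_smul], smul_one_germ_eq_zero x _⟩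

lemma isAssociatedPrime_maximalIdeal_of_isWeakAssPoint {x : X}
    (h : Curv2.IsWeakAssPoint (Coh.structureModule X) x) :
    IsAssociatedPrime (IsLocalRing.maximalIdeal (X.presheaf.stalk x)) (X.presheaf.stalk x) := by
  obtain ⟨c, hc⟩ := exists_radical_eq_of_isWeakAssPoint h
  refine ⟨inferInstance, c, hc ▸ congrArg Ideal.radical ?_⟩
  ext r
  simp [Submodule.mem_colon_singleton]

lemma isUnit_of_mem_nonZeroDivisors_of_isAssociatedPrime {y : X}
    (hy : IsAssociatedPrime (IsLocalRing.maximalIdeal (X.presheaf.stalk y)) (X.presheaf.stalk y))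
    {g : X.presheaf.stalk y} (hg : g ∈ (X.presheaf.stalk y)⁰) : IsUnit g := by
  by_contra hu
  obtain ⟨-, c, hc⟩ := hy
  have hm : g ∈ IsLocalRing.maximalIdeal (X.presheaf.stalk y) := hu
  rw [hc] at hm
  obtain ⟨k, hk⟩ := hm
  rw [Submodule.mem_colon_singleton, Submodule.mem_bot, smul_eq_mul] at hk
  have h0 : c = 0 := mem_nonZeroDivisors_iff_left.mp (pow_mem hg k) c hk
  apply (IsLocalRing.maximalIdeal.isMaximal (X.presheaf.stalk y)).ne_top
  rw [hc, Ideal.radical_eq_top, Ideal.eq_top_iff_one, Submodule.mem_colon_singleton, h0, smul_zero]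
  exact zero_mem _

lemma app_mem_regSub_of_forall_isUnit (f : X ⟶ Y)
    (h : ∀ x : X, Curv2.IsWeakAssPoint (Coh.structureModule X) x →
      ∀ g ∈ (Y.presheaf.stalk (f x))⁰, IsUnit g)
    (U : Y.Opens) (s : Γ(Y, U)) (hs : s ∈ Mero.regSub Y U) :
    f.app U s ∈ Mero.regSub X (f ⁻¹ᵁ U) := by
  intro x
  by_contra hx
  obtain ⟨x', hsp, hw, hnu⟩ := exists_weakAss_of_not_mem_nonZeroDivisors x.1 _ hx
  rw [TopCat.Presheaf.germ_stalkSpecializes_apply] at hnu
  replace hnu : ¬ IsUnit (f.stalkMap x' (Y.presheaf.germ U (f x') (hsp.mem_open (f ⁻¹ᵁ U).isOpen x.2) s)) :=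
    fun hu ↦ hnu (Scheme.Hom.germ_stalkMap_apply f U x' _ s ▸ hu)
  exact hnu ((h x' hw _ (hs ⟨f x', hsp.mem_open (f ⁻¹ᵁ U).isOpen x.2⟩)).map (f.stalkMap x').hom)

lemma eq_closedPoint_of_minimal {y : X} (hy : ∀ y' : X, y' ⤳ y → y' = y)
    (J : Ideal (X.presheaf.stalk y)) [hJ : J.IsPrime] : J = IsLocalRing.maximalIdeal _ := by
  have h1 : X.fromSpecStalk y ⟨J, hJ⟩ = y := hy _ (by
    have : X.fromSpecStalk y ⟨J, hJ⟩ ∈ Set.range (X.fromSpecStalk y) := ⟨_, rfl⟩
    rwa [Scheme.range_fromSpecStalk] at this)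
  have h2 : (⟨J, hJ⟩ : PrimeSpectrum (X.presheaf.stalk y)) = IsLocalRing.closedPoint _ :=
    (X.fromSpecStalk y).isEmbedding.injective (h1.trans Scheme.fromSpecStalk_closedPoint.symm)
  exact congrArg PrimeSpectrum.asIdeal h2

lemma isNilpotent_of_minimal {y : X} (hy : ∀ y' : X, y' ⤳ y → y' = y)
    {g : X.presheaf.stalk y} (hg : ¬ IsUnit g) : IsNilpotent g := by
  rw [nilpotent_iff_mem_prime]
  intro J hJ
  rw [eq_closedPoint_of_minimal hy J]
  exact hg

lemma isWeakAssPoint_of_minimal {x : X} (hx : ∀ y : X, y ⤳ x → y = x) :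
    Curv2.IsWeakAssPoint (Coh.structureModule X) x := by
  refine isWeakAssPoint_of_radical_eq x 1 ?_
  have h0 : LinearMap.ker (LinearMap.toSpanSingleton (X.presheaf.stalk x) (X.presheaf.stalk x) 1) = ⊥ :=
    LinearMap.ker_eq_bot.mpr fun a b h ↦ by simpa using h
  rw [h0]
  refine le_antisymm (IsLocalRing.le_maximalIdeal ?_) fun g hg ↦ ?_
  · rw [Ne, Ideal.radical_eq_top]; exact bot_ne_top
  · obtain ⟨k, hk⟩ := isNilpotent_of_minimal hx hg
    exact ⟨k, by rw [hk]; exact zero_mem _⟩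

lemma minimal_of_isWeakAssPoint [IsReduced X] {x : X}
    (h : Curv2.IsWeakAssPoint (Coh.structureModule X) x) : ∀ y : X, y ⤳ x → y = x := by
  intro y hy
  obtain ⟨c, hc⟩ := exists_radical_eq_of_isWeakAssPoint h
  have hc0 : c ≠ 0 := by
    rintro rfl
    apply (IsLocalRing.maximalIdeal.isMaximal (X.presheaf.stalk x)).ne_top
    rw [← hc, Ideal.radical_eq_top, LinearMap.ker_eq_top]
    ext; simp
  obtain ⟨Q, hQ, hcQ⟩ : ∃ Q : Ideal (X.presheaf.stalk x), Q.IsPrime ∧ c ∉ Q := by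
    by_contra! hne
    exact hc0 (IsNilpotent.eq_zero (nilpotent_iff_mem_prime.mpr hne))
  have hmax : IsLocalRing.maximalIdeal (X.presheaf.stalk x) ≤ Q := by
    rw [← hc]
    refine hQ.radical_le_iff.mpr fun r hr ↦ (hQ.mem_or_mem ?_).resolve_right hcQ
    rw [show r * c = 0 from hr]
    exact zero_mem _
  -- every prime of the stalk is maximal
  have hall : ∀ J : Ideal (X.presheaf.stalk x), J.IsPrime → c ∉ J → J = IsLocalRing.maximalIdeal _ :=
    fun J hJ hcJ ↦ le_antisymm (IsLocalRing.le_maximalIdeal hJ.ne_top) (by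
      rw [← hc]
      refine hJ.radical_le_iff.mpr fun r hr ↦ (hJ.mem_or_mem ?_).resolve_right hcJ
      rw [show r * c = 0 from hr]
      exact zero_mem _)
  have hcu : IsUnit c := by
    by_contra hcu
    exact hcQ (hmax hcu)
  obtain ⟨z, hz⟩ : y ∈ Set.range (X.fromSpecStalk x) := by rw [Scheme.range_fromSpecStalk]; exact hy
  rw [← hz, show z = IsLocalRing.closedPoint (X.presheaf.stalk x) from PrimeSpectrum.ext
    (hall z.asIdeal z.isPrime fun h ↦ z.isPrime.ne_top (Ideal.eq_top_of_isUnit_mem _ h hcu))]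
  exact Scheme.fromSpecStalk_closedPoint

lemma closure_mem_irreducibleComponents_iff {x : X} :
    closure ({x} : Set X) ∈ irreducibleComponents X ↔ ∀ y : X, y ⤳ x → y = x := by
  constructor
  · intro h y hy
    have h1 : closure ({x} : Set X) ⊆ closure {y} :=
      closure_minimal (Set.singleton_subset_iff.mpr (specializes_iff_mem_closure.mp hy)) isClosed_closure
    have h2 : closure ({y} : Set X) ⊆ closure {x} := h.2 isIrreducible_singleton.closure h1
    exact (hy.antisymm (specializes_iff_mem_closure.mpr (h2 (subset_closure rfl)))).eq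
  · intro h
    obtain ⟨Z, hZ, hle⟩ := exists_mem_irreducibleComponents_subset_of_isIrreducible
      (closure ({x} : Set X)) isIrreducible_singleton.closure
    obtain ⟨y, hy⟩ := QuasiSober.sober hZ.1 (isClosed_of_mem_irreducibleComponents Z hZ)
    have : y ⤳ x := hy.specializes (hle (subset_closure rfl))
    rw [h y this] at hy
    exact hy.def.symm ▸ hZ

lemma finite_irreducibleComponents_of_locFin
    (hX : ∀ x : X, ∃ W : X.Opens, x ∈ W ∧
      {Z : Set X | Z ∈ irreducibleComponents X ∧ (Z ∩ (W : Set X)).Nonempty}.Finite)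
    (U : X.Opens) (hU : IsCompact (U : Set X)) : (irreducibleComponents (U : Scheme.{u})).Finite := by
  choose W hxW hW using hX
  obtain ⟨t, ht⟩ := hU.elim_finite_subcover (fun x : X ↦ (W x : Set X)) (fun x ↦ (W x).isOpen)
    (fun x _ ↦ Set.mem_iUnion.mpr ⟨x, hxW x⟩)
  have hfin : {Z : Set X | Z ∈ irreducibleComponents X ∧ (Z ∩ (U : Set X)).Nonempty}.Finite := by
    refine (t.finite_toSet.biUnion fun x _ ↦ hW x).subset ?_
    rintro Z ⟨hZ, z, hzZ, hzU⟩
    obtain ⟨x, hx, hzx⟩ := Set.mem_iUnion₂.mp (ht hzU)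
    exact Set.mem_biUnion hx ⟨hZ, z, hzZ, hzx⟩
  refine (hfin.image fun Z ↦ U.ι ⁻¹' Z).subset fun T hT ↦ ?_
  obtain ⟨Z, hZ, hle⟩ := exists_mem_irreducibleComponents_subset_of_isIrreducible _
    (hT.1.image U.ι U.ι.continuous.continuousOn)
  obtain ⟨z, hz⟩ := hT.1.1
  have hzZ : U.ι z ∈ Z := hle ⟨z, hz, rfl⟩
  refine ⟨Z, ⟨hZ, U.ι z, hzZ, z.2⟩, ?_⟩
  have hcomp := preimage_mem_irreducibleComponents hZ U.ι.isOpenEmbedding ⟨U.ι z, hzZ, z, rfl⟩
  exact Set.Subset.antisymm (hT.2 hcomp.1 (fun a ha ↦ hle ⟨a, ha, rfl⟩)) fun a ha ↦ hle ⟨a, ha, rfl⟩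

lemma kstalk_algebraMap_bijective_of_minimal {η : X} (hη : ∀ y : X, y ⤳ η → y = η) :
    Function.Bijective (algebraMap (X.presheaf.stalk η) (Mero.KStalk X η)) :=
  (IsLocalization.atUnits _ (Mero.regStalk X η) fun s hs ↦
    isUnit_of_mem_nonZeroDivisors_of_minimal hη (Mero.regStalk_le_nonZeroDivisors η hs)).bijective

section Generic

variable (ha : ∀ x : X, Curv2.IsWeakAssPoint (Coh.structureModule X) x → ∀ y : X, y ⤳ x → y = x)
  (hb : ∀ U : X.Opens, IsCompact (U : Set X) → (irreducibleComponents (U : Scheme.{u})).Finite)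

lemma eq_zero_of_germ_weakAss {U : X.Opens} (a : Γ(X, U))
    (h : ∀ (η : X) (hη : η ∈ U), Curv2.IsWeakAssPoint (Coh.structureModule X) η →
      X.presheaf.germ U η hη a = 0) : a = 0 := by
  refine eq_zero_of_germ_eq_zero fun x hx ↦ ?_
  by_contra hne
  obtain ⟨_, ⟨W, hW, rfl⟩, hxW, hWU⟩ := X.isBasis_affineOpens.exists_subset_of_mem_open hx U.isOpen
  replace hWU : W ≤ U := hWU
  let a' : Γ(X, W) := X.presheaf.map (homOfLE hWU).op a
  let I : Ideal Γ(X, W) := LinearMap.ker (LinearMap.toSpanSingleton Γ(X, W) Γ(X, W) a')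
  have hI : I ≤ pr hW x hxW := fun r hr ↦ by
    by_contra hr'
    apply hne
    have := (germ_eq_zero_iff hW (hx := hxW) a').mpr ⟨r, hr', hr⟩
    rwa [TopCat.Presheaf.germ_res_apply] at this
  obtain ⟨q, hq, hqx⟩ := Ideal.exists_minimalPrimes_le hI
  let qq : PrimeSpectrum Γ(X, W) := ⟨q, hq.isPrime⟩
  have hmem := fromSpec_mem hW qq
  have hpr : pr hW _ hmem = q := congrArg PrimeSpectrum.asIdeal (primeIdealOf_fromSpec hW qq)
  have hweak : Curv2.IsWeakAssPoint (Coh.structureModule X) (hW.fromSpec qq) := by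
    refine isWeakAssPoint_of_radical_eq _ (X.presheaf.germ W _ hmem a') ?_
    apply le_antisymm
    · refine IsLocalRing.le_maximalIdeal fun htop ↦ ?_
      rw [Ideal.radical_eq_top, Ideal.eq_top_iff_one] at htop
      obtain ⟨r, hr, hr0⟩ := (germ_eq_zero_iff hW _).mp ((one_mul _).symm.trans htop)
      exact hr (hpr.symm ▸ hq.le (show r ∈ I from hr0))
    · rw [Ideal.radical_eq_sInf]
      refine le_sInf fun Q ⟨hQ, hQp⟩ ↦ ?_
      intro y hy
      obtain ⟨r, w, hw, hrw⟩ := exists_germ_mul_eq hW (hx := hmem) y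
      let Q' : Ideal Γ(X, W) := Q.comap (X.presheaf.germ W _ hmem).hom
      have hQ' : Q'.IsPrime := Ideal.IsPrime.comap _
      have hle : Q' ≤ q := by
        intro e he
        by_contra heq
        exact hQp.ne_top (Q.eq_top_of_isUnit_mem he ((isUnit_germ_iff hW e).mpr (hpr.symm ▸ heq)))
      have hIQ : I ≤ Q' := fun e he ↦ hQ (by
        show X.presheaf.germ W _ hmem e * X.presheaf.germ W _ hmem a' = 0
        rw [← map_mul, show e * a' = 0 from he, map_zero])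
      have hQq : q ≤ Q' := hq.2 ⟨hQ', hIQ⟩ hle
      have hr : X.presheaf.germ W _ hmem r ∈ Q := hQq (hpr ▸ by
        by_contra hr
        have := (isUnit_germ_iff hW r).mpr hr
        rw [← hrw, IsUnit.mul_iff] at this
        exact hy this.1)
      rw [← hrw] at hr
      exact (hQp.mem_or_mem hr).resolve_right fun h ↦ hQp.ne_top
        (Q.eq_top_of_isUnit_mem h ((isUnit_germ_iff hW w).mpr hw))
  have h0 := h _ (hWU hmem) hweak
  rw [← TopCat.Presheaf.germ_res_apply X.presheaf (homOfLE hWU) _ hmem a] at h0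
  obtain ⟨r, hr, hr0⟩ := (germ_eq_zero_iff hW _).mp h0
  exact hr (hpr.symm ▸ hq.le (show r ∈ I from hr0))

include ha in
lemma eq_zero_of_germ_minimal {U : X.Opens} (a : Γ(X, U))
    (h : ∀ (η : X) (hη : η ∈ U), (∀ y : X, y ⤳ η → y = η) → X.presheaf.germ U η hη a = 0) : a = 0 :=
  eq_zero_of_germ_weakAss a fun η hη hw ↦ h η hη (ha η hw)

include ha in
lemma kmod_ext_minimal {U : X.Opens} {s s' : Γ(Mero.kmod X, U)}
    (h : ∀ η : U, (∀ y : X, y ⤳ η.1 → y = η.1) → s.1 η = s'.1 η) : s = s' := by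
  rw [← sub_eq_zero]
  refine kmod_ext fun x ↦ ?_
  obtain ⟨V, hV, i, a, b, hab⟩ := exists_fraction (s - s') x
  have h0 : a = 0 := eq_zero_of_germ_minimal ha a fun η hη hmin ↦ by
    have h1 : (s - s').1 ⟨η, i hη⟩ = 0 :=
      show s.1 ⟨η, i hη⟩ + -(s'.1 ⟨η, i hη⟩) = 0 by rw [h ⟨η, i hη⟩ hmin, add_neg_cancel]
    rw [hab ⟨η, hη⟩] at h1
    exact (kstalk_mk_eq_zero_iff _ _).mp h1
  rw [hab ⟨x.1, hV⟩, h0, map_zero, LocalizedModule.zero_mk]
  rfl

include ha hb in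
lemma exists_fraction_of_minimal {W : X.Opens} (hW : IsAffineOpen W)
    (ω : ∀ η : W, X.presheaf.stalk η.1) :
    ∃ (m : Γ(X, W)) (d : Mero.regSub X W), ∀ η : W, (∀ y : X, y ⤳ η.1 → y = η.1) →
      ω η * X.presheaf.germ W η.1 η.2 d = X.presheaf.germ W η.1 η.2 m := by
  classical
  let G := {η : W | ∀ y : X, y ⤳ η.1 → y = η.1}
  have hGmin : ∀ η ∈ G, pr hW η.1 η.2 ∈ minimalPrimes Γ(X, W) := fun η hη ↦
    ⟨⟨(hW.primeIdealOf η).isPrime, bot_le⟩, fun q hq hle ↦ by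
      have h1 := hη _ (specializes_of_le hW ⟨q, hq.1⟩ hle)
      have h2 : hW.fromSpec ⟨q, hq.1⟩ = hW.fromSpec (hW.primeIdealOf η) :=
        h1.trans (hW.fromSpec_primeIdealOf η).symm
      exact (congrArg PrimeSpectrum.asIdeal (hW.fromSpec.isOpenEmbedding.injective h2)).ge⟩
  have hprinj : ∀ η η' : W, pr hW η.1 η.2 = pr hW η'.1 η'.2 → η = η' := fun η η' h ↦
    Subtype.ext ((hW.fromSpec_primeIdealOf η).symm.trans
      ((congrArg hW.fromSpec (PrimeSpectrum.ext h)).trans (hW.fromSpec_primeIdealOf η')))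
  have hG : G.Finite := Set.Finite.of_finite_image ((minimalPrimes_finite hb hW).subset
    (show (fun η : W ↦ pr hW η.1 η.2) '' G ⊆ minimalPrimes Γ(X, W) by
      rintro _ ⟨η, hη, rfl⟩; exact hGmin η hη)) fun η _ η' _ h ↦ hprinj η η' h
  let F := hG.toFinset
  have he : ∀ η ∈ F, ∃ e : Γ(X, W), e ∉ pr hW η.1 η.2 ∧
      ∀ η' ∈ F, η' ≠ η → X.presheaf.germ W η'.1 η'.2 e = 0 := by
    intro η hη
    have hw : ∀ η' ∈ F.erase η, ∃ w : Γ(X, W), w ∉ pr hW η.1 η.2 ∧ X.presheaf.germ W η'.1 η'.2 w = 0 := by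
      intro η' hη'
      obtain ⟨hne, hη'F⟩ := Finset.mem_erase.mp hη'
      have hnle : ¬ pr hW η'.1 η'.2 ≤ pr hW η.1 η.2 := fun hle ↦ hne (hprinj _ _ (le_antisymm hle
        ((hGmin η (hG.mem_toFinset.mp hη)).2 (hGmin η' (hG.mem_toFinset.mp hη'F)).1 hle)))
      obtain ⟨w, hw', hw⟩ := SetLike.not_le_iff_exists.mp hnle
      obtain ⟨k, hk⟩ := isNilpotent_of_minimal (hG.mem_toFinset.mp hη'F)
        (g := X.presheaf.germ W η'.1 η'.2 w) (fun hu ↦ (isUnit_germ_iff hW w).mp hu hw')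
      exact ⟨w ^ k, fun h ↦ hw ((hW.primeIdealOf η).isPrime.mem_of_pow_mem k h), by rw [map_pow, hk]⟩
    choose w hwη hw0 using hw
    refine ⟨∏ η' ∈ (F.erase η).attach, w η'.1 η'.2, fun h ↦ ?_, fun η' hη' hne ↦ ?_⟩
    · obtain ⟨η', -, h'⟩ := (hW.primeIdealOf η).isPrime.prod_mem_iff.mp h
      exact hwη η'.1 η'.2 h'
    · rw [map_prod]
      exact Finset.prod_eq_zero (Finset.mem_attach _ ⟨η', Finset.mem_erase.mpr ⟨hne, hη'⟩⟩) (hw0 _ _)
  choose e hee he0 using he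
  choose a t ht hat using fun η : W ↦ exists_germ_mul_eq hW (hx := η.2) (ω η)
  let m := ∑ η ∈ F.attach, e η.1 η.2 * a η.1
  let d := ∑ η ∈ F.attach, e η.1 η.2 * t η.1
  have heval : ∀ (η : W) (hη : η ∈ F) (f : W → Γ(X, W)),
      X.presheaf.germ W η.1 η.2 (∑ η' ∈ F.attach, e η'.1 η'.2 * f η'.1) =
        X.presheaf.germ W η.1 η.2 (e η hη * f η) := by
    intro η hη f
    rw [map_sum, Finset.sum_eq_single ⟨η, hη⟩]
    · intro η' _ hne
      rw [map_mul, he0 η'.1 η'.2 η hη (fun h ↦ hne (Subtype.ext h.symm)), zero_mul]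
    · exact fun h ↦ (h (Finset.mem_attach _ _)).elim
  have hu : ∀ (η : W) (hη : η ∈ F), IsUnit (X.presheaf.germ W η.1 η.2 d) := by
    intro η hη
    rw [heval η hη t, map_mul]
    exact ((isUnit_germ_iff hW _).mpr (hee η hη)).mul ((isUnit_germ_iff hW _).mpr (ht η))
  have hd : d ∈ Mero.regSub X W := by
    intro x
    by_contra hx
    obtain ⟨x', hsp, hw, hnu⟩ := exists_weakAss_of_not_mem_nonZeroDivisors x.1 _ hx
    rw [TopCat.Presheaf.germ_stalkSpecializes_apply] at hnu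
    exact hnu (hu ⟨x', hsp.mem_open W.isOpen x.2⟩ (hG.mem_toFinset.mpr (ha x' hw)))
  refine ⟨m, ⟨d, hd⟩, fun η hη ↦ ?_⟩
  have hηF : η ∈ F := hG.mem_toFinset.mpr hη
  show ω η * X.presheaf.germ W η.1 η.2 d = X.presheaf.germ W η.1 η.2 m
  rw [heval η hηF t, heval η hηF a, map_mul, map_mul, ← hat η]
  ring

include ha hb in
/-- A family of germs at the generic points of `U` is given by exactly one meromorphic function. -/
lemma existsUnique_kmod_of_minimal (U : X.Opens) (ω : ∀ η : U, X.presheaf.stalk η.1) :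
    ∃! s : Γ(Mero.kmod X, U), ∀ η : U, (∀ y : X, y ⤳ η.1 → y = η.1) →
      s.1 η = LocalizedModule.mk (ω η) 1 := by
  have hloc : ∀ x : U, ∃ W : X.Opens, x.1 ∈ W ∧ IsAffineOpen W ∧ W ≤ U := fun x ↦ by
    obtain ⟨_, ⟨W, hW, rfl⟩, hxW, hWU⟩ := X.isBasis_affineOpens.exists_subset_of_mem_open x.2 U.isOpen
    exact ⟨W, hxW, hW, hWU⟩
  choose W hxW hW hWU using hloc
  choose m d hmd using fun x ↦ exists_fraction_of_minimal ha hb (hW x) (fun η ↦ ω ⟨η.1, hWU x η.2⟩)
  let sec (x : U) : Γ(Mero.kmod X, W x) :=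
    ⟨fun y ↦ LocalizedModule.mk (X.presheaf.germ (W x) y.1 y.2 (m x)) (Mero.regGerm y (d x)),
      fun y ↦ ⟨W x, y.2, 𝟙 _, m x, d x, fun _ ↦ rfl⟩⟩
  have hsec : ∀ (x : U) (η : W x), (∀ y : X, y ⤳ η.1 → y = η.1) →
      (sec x).1 η = LocalizedModule.mk (ω ⟨η.1, hWU x η.2⟩) 1 := fun x η hη ↦ by
    refine LocalizedModule.mk_eq.mpr ⟨1, ?_⟩
    have := hmd x η hη
    simp only [one_smul, Submonoid.smul_def, smul_eq_mul]
    rw [mul_comm (ω _)] at this
    exact this.symm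
  have hcompat : ∀ (x x' : U) (y : X) (hy : y ∈ W x) (hy' : y ∈ W x'),
      (sec x).1 ⟨y, hy⟩ = (sec x').1 ⟨y, hy'⟩ := by
    intro x x' y hy hy'
    have := kmod_ext_minimal ha (s := (Mero.kmod X).presheaf.map (homOfLE (inf_le_left : W x ⊓ W x' ≤ W x)).op (sec x))
      (s' := (Mero.kmod X).presheaf.map (homOfLE (inf_le_right : W x ⊓ W x' ≤ W x')).op (sec x'))
      fun η hη ↦ (hsec x ⟨η.1, η.2.1⟩ hη).trans (hsec x' ⟨η.1, η.2.2⟩ hη).symm
    exact congrFun (congrArg Subtype.val this) ⟨y, hy, hy'⟩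
  refine ⟨⟨fun y ↦ (sec y).1 ⟨y.1, hxW y⟩, fun y ↦ ⟨W y, hxW y, homOfLE (hWU y), m y, d y, fun z ↦ ?_⟩⟩,
    fun η hη ↦ hsec η ⟨η.1, hxW η⟩ hη, fun s hs ↦ ?_⟩
  · exact hcompat ⟨z.1, hWU y z.2⟩ y z.1 (hxW _) z.2
  · exact kmod_ext_minimal ha fun η hη ↦ (hs η hη).trans (hsec η ⟨η.1, hxW η⟩ hη).symm

end Generic

lemma minimal_mem_of_schematicallyDense [IsReduced X]
    (hb : ∀ U : X.Opens, IsCompact (U : Set X) → (irreducibleComponents (U : Scheme.{u})).Finite)
    {U V : X.Opens}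
    (hV : ∀ W : X.Opens, W ≤ U →
      Function.Injective (X.presheaf.map (homOfLE (inf_le_left : W ⊓ V ≤ W)).op))
    (η : U) (hη : ∀ y : X, y ⤳ η.1 → y = η.1) : η.1 ∈ V := by
  classical
  obtain ⟨_, ⟨W, hW, rfl⟩, hηW, hWU⟩ := X.isBasis_affineOpens.exists_subset_of_mem_open η.2 U.isOpen
  by_contra hηV
  obtain ⟨m, d, hmd⟩ := exists_fraction_of_minimal (fun x hx ↦ minimal_of_isWeakAssPoint hx) hb hW
    (fun z ↦ if z.1 = η.1 then 1 else 0)
  have hm0 : m = 0 := hV W hWU (by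
    rw [map_zero]
    refine eq_zero_of_germ_minimal (fun x hx ↦ minimal_of_isWeakAssPoint hx) _ fun z hz hzmin ↦ ?_
    rw [TopCat.Presheaf.germ_res_apply, ← hmd ⟨z, hz.1⟩ hzmin]
    have : z ≠ η.1 := fun h ↦ hηV (h ▸ hz.2)
    simp [this])
  have h1 := hmd ⟨η.1, hηW⟩ hη
  rw [hm0, map_zero, if_pos rfl, one_mul] at h1
  exact nonZeroDivisors.ne_zero (d.2 ⟨η.1, hηW⟩) h1

end Groth.Agent.MeroBasic
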