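import Groth.Agent.MeroBasic.DivIso
import Groth.Agent.MeroBasic.DivTensor
import Groth.Agent.InvBasic.QCoh
import Groth.Agent.QCohLib.Sections
import Groth.Prelude.Def_PicF2
import Groth.Prelude.Def_PicGrp

/-! Zero schemes of sections of `O_X(D)`, `D` effective. -/

namespace Groth.Agent.MeroBasic

open AlgebraicGeometry CategoryTheory TopologicalSpace Opposite

universe u

variable {X : Scheme.{u}}

/-- The image of a map from a quasi-coherent module to `O_X` is a quasi-coherent ideal sheaf. -/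
theorem exists_range_idealSheaf {M : X.Modules} (hM : M.IsQuasicoherent) (φ : M ⟶ Coh.structureModule X) :
    ∃ I : X.IdealSheafData, ∀ (U : X.affineOpens) (a : Γ(X, U.1)),
      a ∈ I.ideal U ↔ ∃ m : Γ(M, U.1), (φ.app U.1 m : Γ(X, U.1)) = a := by
  let J (U : X.Opens) : Ideal Γ(X, U) :=
    { carrier := {a | ∃ m : Γ(M, U), (φ.app U m : Γ(X, U)) = a}
      add_mem' := by
        rintro a b ⟨m, rfl⟩ ⟨n, rfl⟩
        exact ⟨m + n, map_add _ m n⟩
      zero_mem' := ⟨0, map_zero _⟩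
      smul_mem' := by
        rintro c a ⟨m, rfl⟩
        exact ⟨c • m, Scheme.Modules.Hom.app_smul φ c m⟩ }
  refine ⟨{ ideal := fun U ↦ J U.1, map_ideal_basicOpen := fun U f ↦ ?_ }, fun U a ↦ Iff.rfl⟩
  refine le_antisymm (Ideal.map_le_iff_le_comap.mpr ?_) fun a ha ↦ ?_
  · rintro a ⟨m, rfl⟩
    exact ⟨M.presheaf.map (homOfLE (X.basicOpen_le f)).op m,
      Groth.Agent.QCohLib.app_map φ (X.basicOpen_le f) m⟩
  · obtain ⟨m, rfl⟩ := ha
    obtain ⟨n, m', hm'⟩ := Groth.Agent.QCohLib.exists_res_eq_pow_smul (M := M) U.2 f (X.basicOpen f)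
      (X.basicOpen_le f) rfl m
    have hu : IsUnit (X.presheaf.map (homOfLE (X.basicOpen_le f)).op f) := X.toRingedSpace.isUnit_res_basicOpen f
    refine (Ideal.unit_mul_mem_iff_mem _ (hu.pow n)).mp ?_
    have h1 : X.presheaf.map (homOfLE (X.basicOpen_le f)).op (show Γ(X, U.1) from φ.app U.1 m') =
        X.presheaf.map (homOfLE (X.basicOpen_le f)).op f ^ n * (show Γ(X, X.basicOpen f) from φ.app _ m) := by
      have h0 := congrArg (φ.app (X.basicOpen f)) hm'
      rw [Groth.Agent.QCohLib.app_map, Scheme.Modules.Hom.app_smul] at h0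
      exact h0
    exact h1 ▸ Ideal.mem_map_of_mem _ ⟨m', rfl⟩

variable {D : Mero.Divisor X} (hD : ∀ x : X, Mero.DivCond D x 1)

lemma divCond_inv_iff {x : X} {G : (Mero.KStalk X x)ˣ} (hG : D.1 x = QuotientGroup.mk G) (t : Mero.KStalk X x) :
    Mero.DivCond D⁻¹ x t ↔ t * ↑G⁻¹ ∈ (algebraMap (X.presheaf.stalk x) (Mero.KStalk X x)).range :=
  divCond_iff (D := D⁻¹) (g := G⁻¹) (show (D.1 x)⁻¹ = _ by rw [hG, QuotientGroup.mk_inv]) t

include hD in
lemma mem_range_of_divCond_inv {x : X} {t : Mero.KStalk X x} (ht : Mero.DivCond D⁻¹ x t) :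
    t ∈ (algebraMap (X.presheaf.stalk x) (Mero.KStalk X x)).range := by
  obtain ⟨G, hG⟩ := QuotientGroup.mk_surjective (D.1 x)
  have h1 := (divCond_inv_iff hG.symm t).mp ht
  have h2 : (G : Mero.KStalk X x) ∈ (algebraMap (X.presheaf.stalk x) (Mero.KStalk X x)).range := by
    simpa using hD x G hG.symm
  have := mul_mem h1 h2
  rwa [mul_assoc, Units.inv_mul, mul_one] at this

include hD in
/-- The ideal sheaf of an effective divisor. -/
theorem exists_effIdeal : ∃ I : X.IdealSheafData, ∀ (U : X.affineOpens) (a : Γ(X, U.1)),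
    a ∈ I.ideal U ↔ ∀ y : U.1, Mero.DivCond D⁻¹ y.1 ((Mero.toK X U.1 a).1 y) := by
  choose r hr using fun (U : X.Opens) (t : Γ(Mero.divMod D⁻¹, U)) ↦
    exists_toK_eq (toKmod t) fun y ↦ mem_range_of_divCond_inv hD (t.2.2 y)
  let φ : Mero.divMod D⁻¹ ⟶ Coh.structureModule X :=
    ⟨PresheafOfModules.homMk (M₁ := (Mero.divMod D⁻¹).val) (M₂ := (Coh.structureModule X).val)
      { app := fun U ↦ AddCommGrpCat.ofHom
          ({ toFun := r U.unop
             map_zero' := toK_injective _ (by rw [hr, map_zero]; rfl)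
             map_add' := fun t t' ↦ toK_injective _ (by rw [hr, map_add, hr, hr]; rfl) } :
            Γ(Mero.divMod D⁻¹, U.unop) →+ Γ(X, U.unop))
        naturality := fun {U V} i ↦ by
          ext t
          refine toK_injective V.unop (kmod_ext fun y ↦ ?_)
          refine (congrFun (congrArg Subtype.val (hr V.unop _)) y).trans ?_
          refine Eq.trans ?_ (congrArg (LocalizedModule.mk · 1)
            (TopCat.Presheaf.germ_res_apply' X.presheaf i y.1 y.2 (r U.unop t))).symm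
          exact (congrFun (congrArg Subtype.val (hr U.unop t)) ⟨y.1, i.unop.le y.2⟩).symm }
      (fun U c t ↦ toK_injective U.unop (by
        refine (hr _ _).trans ?_
        refine Eq.trans ?_ (map_mul _ _ _).symm
        refine Eq.trans ?_ (congrArg (fun q ↦ Mero.toK X U.unop c * q) (hr U.unop t)).symm
        exact kmod_ext fun y ↦ Algebra.smul_def (A := Mero.KStalk X y.1) _ _))⟩
  have hqc := InvBasic.isQuasicoherent_of_isInvertible (isInvertible_divMod D⁻¹)
  obtain ⟨I, hI⟩ := exists_range_idealSheaf hqc φ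
  refine ⟨I, fun U a ↦ (hI U a).trans ⟨?_, fun h ↦ ?_⟩⟩
  · rintro ⟨t, rfl⟩ y
    have h1 : (Mero.toK X U.1 (r U.1 t)).1 y = t.1 y := congrFun (congrArg Subtype.val (hr U.1 t)) y
    exact h1.symm ▸ t.2.2 y
  · exact ⟨⟨(Mero.toK X U.1 a).1, (Mero.toK X U.1 a).2, h⟩, toK_injective U.1 (hr _ _)⟩

include hD in
theorem exists_local_equation_ideal {I : X.IdealSheafData}
    (hI : ∀ (U : X.affineOpens) (a : Γ(X, U.1)),
      a ∈ I.ideal U ↔ ∀ y : U.1, Mero.DivCond D⁻¹ y.1 ((Mero.toK X U.1 a).1 y)) :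
    Mero.IsDivOfIdeal D I := by
  intro x
  obtain ⟨U, hxU, g, hg⟩ := D.2 x
  obtain ⟨_, ⟨W, hW, rfl⟩, hxW, hWU⟩ := X.isBasis_affineOpens.exists_subset_of_mem_open hxU U.isOpen
  replace hWU : W ≤ U := hWU
  let G (y : W) : (Mero.KStalk X y.1)ˣ := Units.map (Mero.evalK X U ⟨y.1, hWU y.2⟩).toMonoidHom g
  have hG : ∀ y : W, D.1 y.1 = QuotientGroup.mk (G y) := fun y ↦ hg ⟨y.1, hWU y.2⟩
  obtain ⟨f, hf⟩ := exists_toK_eq ((Mero.kmod X).presheaf.map (homOfLE hWU).op (g : Γ(Mero.kmod X, U))) fun y ↦ by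
    have := hD y.1 (G y) (hG y)
    rwa [one_mul] at this
  have hfy : ∀ y : W, (Mero.toK X W f).1 y = (G y : Mero.KStalk X y.1) := fun y ↦ congrFun (congrArg Subtype.val hf) y
  have hfreg : f ∈ Mero.regSub X W := fun y ↦ by
    rw [mem_nonZeroDivisors_iff_left]
    intro c hc
    refine (kstalk_mk_eq_zero_iff c 1).mp ((G y).isUnit.mul_right_eq_zero.mp ?_)
    rw [← hfy y, Mero.toK_apply, kstalk_mk_mul, hc]
    exact LocalizedModule.zero_mk _
  refine ⟨⟨W, hW⟩, hxW, f, hfreg, ?_, fun y ↦ ?_⟩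
  · ext a
    rw [hI, Ideal.mem_span_singleton']
    constructor
    · intro h
      obtain ⟨r, hr⟩ := exists_toK_eq (Mero.toK X W a *
        (Mero.kmod X).presheaf.map (homOfLE hWU).op (↑g⁻¹ : Γ(Mero.kmod X, U))) fun y ↦
          (divCond_inv_iff (hG y) _).mp (h y)
      refine ⟨r, toK_injective W (kmod_ext fun y ↦ ?_)⟩
      rw [map_mul, Mero.kmod_mul_apply, congrFun (congrArg Subtype.val hr) y, Mero.kmod_mul_apply, hfy y, mul_assoc]
      exact (congrArg ((Mero.toK X W a).1 y * ·)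
        (congrFun (congrArg Subtype.val g.inv_mul) ⟨y.1, hWU y.2⟩)).trans (mul_one _)
    · rintro ⟨r, rfl⟩ y
      rw [divCond_inv_iff (hG y), map_mul, Mero.kmod_mul_apply, hfy y, mul_assoc, Units.mul_inv, mul_one]
      exact ⟨X.presheaf.germ W y.1 y.2 r, rfl⟩
  · rw [hG y]
    exact congrArg QuotientGroup.mk (Units.ext (hfy y).symm)

lemma secVal_res (L : X.Modules) (s : Coh.structureModule X ⟶ L) (U : X.Opens) :
    (PicF2.secVal L s U : Γ(L, U)) = L.presheaf.map (homOfLE (le_top : U ≤ ⊤)).op (PicF2.secVal L s ⊤) := by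
  refine Eq.trans ?_ (Groth.Agent.QCohLib.app_map s (le_top : U ≤ ⊤) (1 : Γ(X, ⊤)))
  exact congrArg (s.app U) (map_one (X.presheaf.map (homOfLE (le_top : U ≤ ⊤)).op).hom).symm

include hD in
theorem isDivOfIdeal_zeroScheme {L : X.Modules} (s : Coh.structureModule X ⟶ L) (e : L ≅ Mero.divMod D)
    (hs : ∀ y : (⊤ : X.Opens), (e.hom.app ⊤ (PicF2.secVal L s ⊤)).1 y = 1) :
    Mero.IsDivOfIdeal D (PicF2.zeroScheme L s) := by
  obtain ⟨I, hI⟩ := exists_effIdeal hD
  suffices PicF2.zeroScheme L s = I from this.symm ▸ exists_local_equation_ideal hD hI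
  have hone : ∀ (U : X.Opens) (y : U), (e.hom.app U (PicF2.secVal L s U)).1 y = 1 := fun U y ↦ by
    rw [secVal_res, Groth.Agent.QCohLib.app_map]
    exact hs ⟨y.1, trivial⟩
  have hinj : ∀ (U : X.Opens), Function.Injective (e.hom.app U) := fun U ↦
    Function.LeftInverse.injective (g := e.inv.app U) fun r ↦
      DFunLike.congr_fun (congrArg (fun φ ↦ (Scheme.Modules.Hom.app φ U).hom) e.hom_inv_id) r
  refine le_antisymm (fun U a ha ↦ (hI U a).mpr fun y ↦ ?_) ?_
  · obtain ⟨U', hyU', g, hg⟩ := D.2 y.1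
    obtain ⟨_, ⟨W, hW, rfl⟩, hyW, hWsub⟩ :=
      X.isBasis_affineOpens.exists_subset_of_mem_open (show y.1 ∈ U.1 ⊓ U' from ⟨y.2, hyU'⟩) (U.1 ⊓ U').isOpen
    replace hWsub : W ≤ U.1 ⊓ U' := hWsub
    have hWU : W ≤ U.1 := hWsub.trans inf_le_left
    have hWU' : W ≤ U' := hWsub.trans inf_le_right
    have h1 : X.presheaf.map (homOfLE hWU).op a ∈ (PicF2.zeroScheme L s).ideal ⟨W, hW⟩ := by
      rw [← (PicF2.zeroScheme L s).map_ideal (U := ⟨W, hW⟩) (V := U) hWU]
      exact Ideal.mem_map_of_mem _ ha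
    have h2 := Scheme.IdealSheafData.ideal_ofIdeals_le _ ⟨W, hW⟩ h1
    let ℓ : Γ(Mero.divMod D, W) := (Mero.divMod D).presheaf.map (homOfLE hWU').op (invSection g hg)
    obtain ⟨b, hb⟩ := h2 (e.inv.app W ℓ)
    have h3 := congrArg (e.hom.app W) (show (X.presheaf.map (homOfLE hWU).op a) • (e.inv.app W ℓ : Γ(L, W)) =
      (show Γ(X, W) from b) • (show Γ(L, W) from PicF2.secVal L s W) from hb)
    rw [Scheme.Modules.Hom.app_smul, Scheme.Modules.Hom.app_smul,
      show e.hom.app W (e.inv.app W ℓ) = ℓ from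
        DFunLike.congr_fun (congrArg (fun φ ↦ (Scheme.Modules.Hom.app φ W).hom) e.inv_hom_id) ℓ] at h3
    have h4 := congrFun (congrArg Subtype.val h3) ⟨y.1, hyW⟩
    refine (divCond_inv_iff (hg ⟨y.1, hyU'⟩) _).mpr ⟨X.presheaf.germ W y.1 hyW b, ?_⟩
    have h5 := (Algebra.smul_def (A := Mero.KStalk X y.1) _ _).symm.trans
      (h4.trans (Algebra.smul_def (A := Mero.KStalk X y.1) _ _))
    rw [hone, mul_one, TopCat.Presheaf.germ_res_apply] at h5
    exact h5.symm
  · refine (Scheme.IdealSheafData.le_ofIdeals_iff).mpr fun U a ha m ↦ ?_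
    have ha' := (hI U a).mp ha
    obtain ⟨r, hr⟩ := exists_toK_eq (Mero.toK X U.1 a * toKmod (e.hom.app U.1 m)) fun y ↦ by
      obtain ⟨G, hG⟩ := QuotientGroup.mk_surjective (D.1 y.1)
      have h1 := mul_mem ((divCond_inv_iff hG.symm _).mp (ha' y))
        ((divCond_iff hG.symm _).mp ((e.hom.app U.1 m).2.2 y))
      rw [mul_mul_mul_comm, Units.inv_mul, mul_one] at h1
      exact h1
    refine ⟨r, hinj U.1 ?_⟩
    refine (Scheme.Modules.Hom.app_smul e.hom a (show Γ(L, U.1) from m)).trans (Eq.trans ?_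
      (Scheme.Modules.Hom.app_smul e.hom r (show Γ(L, U.1) from PicF2.secVal L s U.1)).symm)
    refine Subtype.ext (funext fun y ↦ ?_)
    refine (Algebra.smul_def (A := Mero.KStalk X y.1) _ _).trans
      (Eq.trans ?_ (Algebra.smul_def (A := Mero.KStalk X y.1) _ _).symm)
    rw [hone U.1 y, mul_one]
    exact (congrFun (congrArg Subtype.val hr) y).symm

include hD in
/-- `1` as a map `O_X ⟶ O_X(D)`. -/
noncomputable def oneHom : Coh.structureModule X ⟶ Mero.divMod D :=
  ⟨PresheafOfModules.homMk (M₁ := (Coh.structureModule X).val) (M₂ := (Mero.divMod D).val)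
    { app := fun U ↦ AddCommGrpCat.ofHom
        ({ toFun := fun r : Γ(X, U.unop) ↦ (⟨(Mero.toK X U.unop r).1, (Mero.toK X U.unop r).2, fun y G hG ↦ by
            have h1 : (G : Mero.KStalk X y.1) ∈ (algebraMap (X.presheaf.stalk y.1) (Mero.KStalk X y.1)).range := by
              simpa using hD y.1 G hG
            exact mul_mem ⟨X.presheaf.germ U.unop y.1 y.2 r, rfl⟩ h1⟩ : Γ(Mero.divMod D, U.unop))
           map_zero' := Subtype.ext (funext fun y ↦ show (Mero.toK X U.unop 0).1 y = 0 by rw [map_zero]; rfl)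
           map_add' := fun r r' ↦ Subtype.ext (funext fun y ↦ show (Mero.toK X U.unop (r + r')).1 y =
             (Mero.toK X U.unop r).1 y + (Mero.toK X U.unop r').1 y by rw [map_add]; rfl) } :
          Γ(X, U.unop) →+ Γ(Mero.divMod D, U.unop))
      naturality := fun {U V} i ↦ by
        ext (r : Γ(X, U.unop))
        exact Subtype.ext (funext fun y ↦ congrArg (LocalizedModule.mk · 1)
          (TopCat.Presheaf.germ_res_apply' X.presheaf i y.1 y.2 r)) }
    (fun U c (r : Γ(X, U.unop)) ↦ Subtype.ext (funext fun y ↦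
      (congrFun (congrArg Subtype.val (map_mul (Mero.toK X U.unop) c r)) y).trans
        (Algebra.smul_def (A := Mero.KStalk X y.1) (X.presheaf.germ U.unop y.1 y.2 c) ((Mero.toK X U.unop r).1 y)).symm))⟩

lemma secVal_oneHom (y : (⊤ : X.Opens)) : (PicF2.secVal (Mero.divMod D) (oneHom hD) ⊤).1 y = 1 :=
  congrFun (congrArg Subtype.val (map_one (Mero.toK X ⊤))) y

end Groth.Agent.MeroBasic
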