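import Groth.Agent.MeroBasic.ZeroScheme
import Groth.Agent.QCohLib.StalkLoc
import Mathlib.AlgebraicGeometry.FunctionField

/-! Effective divisors of sections of invertible modules on integral schemes. -/

namespace Groth.Agent.MeroBasic

open AlgebraicGeometry CategoryTheory TopologicalSpace Opposite

universe u

variable {X : Scheme.{u}}

/-- A nonzero section of an invertible module on an integral scheme has nonzero germs. -/
lemma coeff_ne_zero [IsIntegral X] {L : X.Modules} (hL : PicF.IsInvertible L)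
    (s : Coh.structureModule X ⟶ L) (hs : s ≠ 0) {U : X.Opens} (y : X) (hy : y ∈ U) {ℓ : Γ(L, U)}
    (hℓ : InvBasic.IsBasis L ℓ) (c : X.presheaf.stalk y)
    (hc : c • L.presheaf.germ U y hy ℓ = L.presheaf.germ ⊤ y trivial (PicF2.secVal L s ⊤)) : c ≠ 0 := by
  intro hc0
  apply hs
  choose W hxW m hm using InvBasic.exists_isBasis hL
  have hsec : (PicF2.secVal L s ⊤ : Γ(L, ⊤)) = 0 := by
    refine Groth.Agent.QCohLib.section_ext _ _ fun z _ ↦ Eq.trans ?_ (map_zero _).symm
    obtain ⟨V, hyV, i, j, e⟩ := L.presheaf.germ_eq y (U := ⊤) (V := ⊤) trivial trivial (PicF2.secVal L s ⊤) 0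
      (by rw [← hc, hc0, zero_smul, map_zero])
    obtain ⟨b, hb⟩ := (hm z (W z) le_rfl).2 (L.presheaf.map (homOfLE le_top).op (PicF2.secVal L s ⊤))
    have hne : ((W z : Set X) ∩ (V : Set X)).Nonempty :=
      nonempty_preirreducible_inter (W z).isOpen V.isOpen ⟨z, hxW z⟩ ⟨y, hyV⟩
    obtain ⟨w, hwW, hwV⟩ := hne
    have hb0 : b = 0 := by
      have : Nonempty (W z) := ⟨⟨z, hxW z⟩⟩
      refine (map_eq_zero_iff _ (germ_injective_of_isIntegral X (U := W z) w hwW)).mp ?_
      refine ((hm z).stalk_bijective hwW).1 ?_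
      simp only [zero_smul]
      have h1 := congrArg (L.presheaf.germ (W z) w hwW) hb
      simp only [InvBasic.germ_smul, TopCat.Presheaf.germ_res_apply, Groth.Agent.QCohLib.map_self] at h1
      rw [h1]
      have h2 := congrArg (L.presheaf.germ V w hwV) e
      rw [TopCat.Presheaf.germ_res_apply, TopCat.Presheaf.germ_res_apply, map_zero] at h2
      exact h2
    have h1 := congrArg (L.presheaf.germ (W z) z (hxW z)) hb
    simp only [InvBasic.germ_smul, TopCat.Presheaf.germ_res_apply, Groth.Agent.QCohLib.map_self] at h1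
    rw [← h1, hb0, map_zero, zero_smul]
  refine Scheme.Modules.hom_ext _ _ fun V ↦ ?_
  ext r
  exact Groth.Agent.QCohLib.unit_hom_app_eq_zero s (le_top : V ≤ ⊤) hsec r

/-- A nonzero section on an integral scheme is the section `1` of an effective `O(D)`. -/
theorem exists_effective_iso [IsIntegral X] {L : X.Modules} (hL : PicF.IsInvertible L)
    (s : Coh.structureModule X ⟶ L) (hs : s ≠ 0) :
    ∃ (D : Mero.Divisor X) (e : L ≅ Mero.divMod D), (∀ x : X, Mero.DivCond D x 1) ∧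
      ∀ y : (⊤ : X.Opens), (e.hom.app ⊤ (PicF2.secVal L s ⊤)).1 y = 1 := by
  have hreg : Mero.IsRegularMero L (Mero.toMerFun L ⊤ (PicF2.secVal L s ⊤)) := by
    intro x q hq
    obtain ⟨U, hxU, ℓ, hℓ⟩ := InvBasic.exists_isBasis hL x
    obtain ⟨c, hc⟩ := (hℓ.stalk_bijective hxU).2 (L.presheaf.germ ⊤ x trivial (PicF2.secVal L s ⊤))
    simp only at hc
    have hc0 := coeff_ne_zero hL s hs x hxU hℓ c hc
    rw [Mero.toMerFun_apply] at hq
    have h1 : (LocalizedModule.mk c 1 : Mero.KStalk X x) • mgerm L ℓ ⟨x, hxU⟩ =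
        LocalizedModule.mk (L.presheaf.germ ⊤ x trivial (PicF2.secVal L s ⊤)) 1 := by
      rw [kstalk_mk_smul_mk, mul_one, hc]
    have hq' : q • (LocalizedModule.mk c 1 : Mero.KStalk X x) • mgerm L ℓ ⟨x, hxU⟩ = 0 := h1.symm ▸ hq
    rw [← mul_smul] at hq'
    have h2 := eq_zero_of_smul_mgerm hℓ ⟨x, hxU⟩ hq'
    induction q using LocalizedModule.induction_on with
    | h a t =>
      rw [mul_comm, kstalk_mk_mul, kstalk_mk_eq_zero_iff] at h2
      exact (kstalk_mk_eq_zero_iff a t).mpr ((mul_eq_zero.mp h2).resolve_left hc0)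
  obtain ⟨D, e, he⟩ := exists_iso_divMod' hL hreg
  have hone : ∀ y : (⊤ : X.Opens), (e.hom.app ⊤ (PicF2.secVal L s ⊤)).1 y = 1 := fun y ↦ by
    refine sub_eq_zero.mp (hreg y.1 _ ?_)
    rw [sub_smul, one_smul, he ⊤ (PicF2.secVal L s ⊤) y, Mero.toMerFun_apply, sub_self]
  exact ⟨D, e, fun x ↦ hone ⟨x, trivial⟩ ▸ (e.hom.app ⊤ (PicF2.secVal L s ⊤)).2.2 ⟨x, trivial⟩, hone⟩

/-- The divisor of an ideal sheaf is unique. -/
theorem divisor_unique {D D' : Mero.Divisor X} {I : X.IdealSheafData} (h : Mero.IsDivOfIdeal D I)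
    (h' : Mero.IsDivOfIdeal D' I) : D = D' := by
  refine Subtype.ext (funext fun x ↦ ?_)
  obtain ⟨U, hxU, f, hf, hfI, hD⟩ := h x
  obtain ⟨U', hxU', f', hf', hfI', hD'⟩ := h' x
  obtain ⟨_, ⟨W, hW, rfl⟩, hxW, hWsub⟩ :=
    X.isBasis_affineOpens.exists_subset_of_mem_open (show x ∈ U.1 ⊓ U'.1 from ⟨hxU, hxU'⟩) (U.1 ⊓ U'.1).isOpen
  replace hWsub : W ≤ U.1 ⊓ U'.1 := hWsub
  have hWU : W ≤ U.1 := hWsub.trans inf_le_left
  have hWU' : W ≤ U'.1 := hWsub.trans inf_le_right
  have e1 := I.map_ideal (U := ⟨W, hW⟩) (V := U) hWU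
  have e2 := I.map_ideal (U := ⟨W, hW⟩) (V := U') hWU'
  rw [hfI, Ideal.map_span, Set.image_singleton] at e1
  rw [hfI', Ideal.map_span, Set.image_singleton] at e2
  obtain ⟨a, ha⟩ := Ideal.mem_span_singleton'.mp ((e1.trans e2.symm).le (Ideal.mem_span_singleton_self _))
  obtain ⟨b, hb⟩ := Ideal.mem_span_singleton'.mp ((e2.trans e1.symm).le (Ideal.mem_span_singleton_self _))
  replace ha : a * X.presheaf.map (homOfLE hWU').op f' = X.presheaf.map (homOfLE hWU).op f := ha
  replace hb : b * X.presheaf.map (homOfLE hWU).op f = X.presheaf.map (homOfLE hWU').op f' := hb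
  have hab : X.presheaf.germ W x hxW a * X.presheaf.germ W x hxW b = 1 := by
    refine (isRegular_iff_mem_nonZeroDivisors.mpr (hf ⟨x, hxU⟩)).right ?_
    simp only [one_mul]
    rw [← TopCat.Presheaf.germ_res_apply X.presheaf (homOfLE hWU) x hxW f, mul_assoc, ← map_mul, hb, ← map_mul]
    exact congrArg _ ha
  rw [hD ⟨x, hxU⟩, hD' ⟨x, hxU'⟩]
  refine QuotientGroup.eq.mpr ⟨(IsUnit.of_mul_eq_one (X.presheaf.germ W x hxW a) ((mul_comm _ _).trans hab) :
    IsUnit (X.presheaf.germ W x hxW b)).unit, ?_⟩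
  rw [eq_inv_mul_iff_mul_eq]
  refine Units.ext ?_
  change algebraMap _ (Mero.KStalk X x) (X.presheaf.germ U.1 x hxU f) * algebraMap _ _ (X.presheaf.germ W x hxW b) =
    algebraMap _ _ (X.presheaf.germ U'.1 x hxU' f')
  rw [← map_mul, ← TopCat.Presheaf.germ_res_apply X.presheaf (homOfLE hWU) x hxW f,
    ← TopCat.Presheaf.germ_res_apply X.presheaf (homOfLE hWU') x hxW f', ← map_mul, mul_comm, hb]

/-- The tensor product of two maps sends `m ⊗ n` to the tensor of the images. -/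
theorem tensorModIso_tmul {M M' N N' : X.Modules} (a : M ≅ M') (b : N ≅ N') (U : X.Opens)
    (m : Γ(M, U)) (n : Γ(N, U)) :
    (PicGrp.tensorModIso a b).hom.app U (SecTwist.tmul M N U m n) =
      SecTwist.tmul M' N' U (a.hom.app U m) (b.hom.app U n) := by
  have h := (PresheafOfModules.sheafificationAdjunction (R := X.ringCatSheaf) (𝟙 X.ringCatSheaf.obj)).unit.naturality
    (show (CohB1.tensorPre M N : X.PresheafOfModules) ⟶ CohB1.tensorPre M' N' from
      (show (CohB1.tensorPre M N : X.PresheafOfModules) ≅ CohB1.tensorPre M' N' from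
        MonoidalCategory.tensorIso (C := CohB1.PMod X) (PicGrp.valIso a) (PicGrp.valIso b)).hom)
  exact (DFunLike.congr_fun (congrArg (fun φ ↦ (φ.app (op U)).hom) h) _).symm

end Groth.Agent.MeroBasic
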